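import Mathlib
import Cfsg.Agent.Chars.ExtCriteria
import Cfsg.Agent.Chars.Gallagher

/-!
# The determinant of a multiple of the regular character of a cyclic group
-/

set_option autoImplicit false
set_option linter.unusedSectionVars false

namespace Cfsg.Lib.Blocks.SylowCount

open Cfsg.Lib.Chars
open scoped _root_.Classical

universe u

variable {A : Type u} [Group A] [Fintype A]

/-- The sign of the multiplication by a generator. -/
theorem sign_mulRight {a : A} (hgen : ∀ b, b ∈ Subgroup.zpowers a) :
    Equiv.Perm.sign (Equiv.mulRight a) = (-1) ^ (Fintype.card A + 1) := by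
  by_cases ha : a = 1
  · have h1 : ∀ b : A, b = 1 := fun b => by
      have := hgen b
      rwa [ha, Subgroup.zpowers_one_eq_bot, Subgroup.mem_bot] at this
    rw [show Equiv.mulRight a = 1 from Equiv.ext fun b => (h1 _).trans (h1 _).symm, map_one,
      show Fintype.card A = 1 from Fintype.card_eq_one_iff.2 ⟨1, h1⟩, Even.neg_one_pow ⟨1, rfl⟩]
  have happ : ∀ (k : ℤ) (b : A), (Equiv.mulRight a ^ k) b = b * a ^ k := fun k b => by
    rw [Equiv.zpow_mulRight, Equiv.coe_mulRight]
  have hsupp : (Equiv.mulRight a).support = Finset.univ :=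
    Finset.eq_univ_of_forall fun b => by
      rw [Equiv.Perm.mem_support, Equiv.coe_mulRight]
      exact fun e => ha (mul_eq_left.1 e)
  have hcyc : (Equiv.mulRight a).IsCycle := by
    refine ⟨1, by simpa using ha, fun b _ => ?_⟩
    obtain ⟨k, hk⟩ := hgen b
    exact ⟨k, by rw [happ, one_mul]; exact hk⟩
  rw [hcyc.sign, hsupp, Finset.card_univ, pow_succ, mul_neg_one]

/-- `t` copies of the regular representation. -/
noncomputable def regCopies (A : Type u) [Group A] (t : ℕ) :
    Representation ℂ A (A × Fin t → ℂ) where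
  toFun g := LinearMap.funLeft ℂ ℂ fun x : A × Fin t => (x.1 * g, x.2)
  map_one' := by
    refine LinearMap.ext fun f => funext fun x => ?_
    simp [LinearMap.funLeft_apply]
  map_mul' g h := by
    refine LinearMap.ext fun f => funext fun x => ?_
    simp [LinearMap.funLeft_apply, Module.End.mul_apply, mul_assoc]

theorem regCopies_eq (t : ℕ) (g : A) :
    regCopies A t g = Matrix.toLin'
      (Equiv.Perm.permMatrix ℂ (Equiv.prodCongrLeft fun _ : Fin t => Equiv.mulRight g)) := by
  refine LinearMap.ext fun f => ?_
  rw [Matrix.toLin'_apply, Matrix.permMatrix_mulVec]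
  rfl

/-- The determinant of a multiple of the regular character at a generator. -/
theorem detChar_regular {χ : A → ℂ} (t : ℕ) (h1 : χ 1 = (t * Fintype.card A : ℕ))
    (h0 : ∀ a, a ≠ 1 → χ a = 0) {a : A} (hgen : ∀ b, b ∈ Subgroup.zpowers a) :
    Cfsg.detChar χ a = (-1 : ℂ) ^ ((Fintype.card A + 1) * t) := by
  have hχ : χ = (regCopies A t).character := by
    funext g
    show χ g = LinearMap.trace ℂ _ (regCopies A t g)
    rw [regCopies_eq, Matrix.trace_toLin'_eq, Matrix.trace_permutation]
    by_cases hg : g = 1
    · subst hg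
      rw [h1, show Function.fixedPoints ⇑(Equiv.prodCongrLeft fun _ : Fin t => Equiv.mulRight (1 : A)) =
        Set.univ from Set.eq_univ_of_forall fun x => Prod.ext (mul_one x.1) rfl, Set.ncard_univ,
        Nat.card_prod, Nat.card_eq_fintype_card, Nat.card_fin, mul_comm]
    · rw [h0 g hg, show Function.fixedPoints ⇑(Equiv.prodCongrLeft fun _ : Fin t => Equiv.mulRight g) =
        ∅ from Set.eq_empty_of_forall_notMem fun x hx => hg (mul_eq_left.1
          (congrArg Prod.fst (hx : _ = x))), Set.ncard_empty, Nat.cast_zero]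
  rw [hχ, detChar_character, regCopies_eq, LinearMap.det_toLin', Matrix.det_permutation,
    Equiv.Perm.sign_prodCongrLeft, Finset.prod_const, Finset.card_univ, Fintype.card_fin,
    sign_mulRight hgen, ← pow_mul]
  push_cast
  ring

end Cfsg.Lib.Blocks.SylowCount
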