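import Mathlib
import Cfsg.Agent.Blocks.SmallOrder.Main
import Cfsg.Agent.Blocks.SylowCount.Det

/-!
# A perfect group in which every nontrivial normal subgroup contains `y`
-/

set_option autoImplicit false
set_option linter.unusedSectionVars false

namespace Cfsg.Lib.Blocks.SylowCount

open Cfsg.Lib.Chars SmallOrder
open scoped ComplexConjugate _root_.Classical

universe u

variable {G : Type u} [Group G] [Fintype G] {p : ℕ} [Fact p.Prime] {M : Ideal AlgInt}

/-- The form of the exceptional values of `n`. -/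
def FForm (p n : ℕ) : Prop :=
  ∃ h u : ℕ, 0 < h ∧ 0 < u ∧ n * (u + 1) = h * u * p + u ^ 2 + u + h

/-- A perfect group without nontrivial normal `p'`-subgroup. -/
structure Core (C : Cyc G p) : Prop where
  perfect : commutator G = ⊤
  sylow : ∃ P : Sylow p G, Subgroup.zpowers C.y = (P : Subgroup G)
  core : ∀ N : Subgroup G, N.Normal → N ≠ ⊥ → C.y ∈ N

namespace Core

variable {C : Cyc G p} (hC : Core C)
include hC

theorem exists_act_ne_one : ∃ h : C.H, C.act h ≠ 1 := by
  by_contra hall
  push Not at hall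
  obtain ⟨P, hP⟩ := hC.sylow
  refine not_normalizer_le_centralizer hC.perfect P ?_ fun g hg => ?_
  · rw [← hP]
    exact fun e => by
      have := C.order
      rw [Subgroup.zpowers_eq_bot.1 e, orderOf_one] at this
      exact (Fact.out : p.Prime).ne_one this.symm
  · rw [← hP] at hg ⊢
    obtain ⟨h, hh⟩ := DegreeSubTwo.exists_act_of_norm C hg
    refine Subgroup.mem_centralizer_iff.2 fun z hz => ?_
    obtain ⟨i, rfl⟩ := C.mem_zpowers_iff.1 hz
    have h1 := hh i
    rw [hall, Units.val_one, one_mul, mul_inv_eq_iff_eq_mul] at h1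
    exact h1.symm

theorem two_le_eC : 2 ≤ eC C := by
  obtain ⟨h, hh⟩ := hC.exists_act_ne_one
  by_contra hlt
  have h1 : 0 < eC C := Nat.card_pos
  have h2 : Nat.card C.act.range = 1 := by
    rw [← eC]
    omega
  exact hh (Subgroup.mem_bot.1 (Subgroup.card_eq_one.1 h2 ▸ ⟨h, rfl⟩))

theorem three_le : 3 ≤ p := by
  have := hC.two_le_eC
  have := Nat.le_of_dvd (by have := (Fact.out : p.Prime).two_le; omega) (eC_dvd C)
  omega

theorem y_not_center : C.y ∉ Subgroup.center G := by
  intro hy
  obtain ⟨h, hh⟩ := hC.exists_act_ne_one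
  refine hh (Units.ext (C.yP_injective ?_))
  have h1 := C.conj_yP h 1
  rw [C.yP_one, Subgroup.mem_center_iff.1 hy (h : G), mul_inv_cancel_right, mul_one] at h1
  rw [← h1, Units.val_one, C.yP_one]

theorem center_eq_bot : Subgroup.center G = ⊥ := by
  by_contra hne
  exact hC.y_not_center (hC.core _ inferInstance hne)

theorem nn : ¬ (Subgroup.zpowers C.y).Normal := by
  intro hn
  refine hC.y_not_center (Subgroup.mem_center_iff.2 fun g => ?_)
  have := commute_of_perfect_cyclic hC.perfect (Subgroup.zpowers C.y) g (Subgroup.mem_zpowers C.y)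
  rwa [mul_inv_eq_iff_eq_mul] at this

theorem exists_idx : ∃ n, 0 < n ∧ idx C = 1 + n * p := by
  obtain ⟨P, hP⟩ := hC.sylow
  obtain ⟨n, hn, h⟩ := sylow_count P (hP ▸ hC.nn)
  exact ⟨n, hn, by rw [idx, hP, h]⟩

theorem lt_idx : p < idx C := by
  obtain ⟨n, hn, h⟩ := hC.exists_idx
  have : p ≤ n * p := Nat.le_mul_of_pos_left _ hn
  omega

theorem no_normal_prime (H : Subgroup G) (hH : H.Normal) : Nat.card H ≠ p := by
  intro hc
  have hne : H ≠ ⊥ := fun e => by
    rw [e, Subgroup.card_bot] at hc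
    exact (Fact.out : p.Prime).ne_one hc.symm
  refine hC.nn ?_
  rw [Subgroup.eq_of_le_of_card_ge (Subgroup.zpowers_le.2 (hC.core H hH hne))
    (by rw [hc, Nat.card_zpowers, C.order])]
  exact hH

theorem ker_eq_bot {χ : G → ℂ} (hχ : Cfsg.IsCharacter G χ) (hy : χ C.y ≠ χ 1) :
    kerSubgroup χ hχ = ⊥ := by
  by_contra hne
  exact hy ((mem_kerSubgroup hχ C.y).1 (hC.core _ (kerSubgroup_normal hχ) hne))

/-- A character of degree `p - 1` with singular values `-1`. -/
theorem low_char (hM : IsPModular p M) {χ : IrrCharacter G} (hl : C.Lies χ C.oneV)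
    (hd : deg (χ : G → ℂ) + 1 = p) (hv : ∀ i : ZMod p, i ≠ 0 → (χ : G → ℂ) (C.yP i) = -1) :
    Nat.card C.V = 1 ∧ Even (C.E (C.oneV : C.V → ℂ)).index := by
  have hp := (Fact.out : p.Prime)
  have hp3 := hC.three_le
  have hχc := isCharacter_of_irr χ.2
  have hker := hC.ker_eq_bot hχc (by
    intro e
    rw [← C.yP_one, hv 1 one_ne_zero, irr_apply_one_eq_deg] at e
    have h1 : ((deg (χ : G → ℂ) + 1 : ℕ) : ℂ) = 0 := by
      push_cast
      linear_combination -e
    rw [Nat.cast_eq_zero] at h1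
    omega)
  have hV : Nat.card C.V = 1 := by
    refine Nat.card_eq_one_iff_exists.2 ⟨1, fun v => Subtype.ext (Subtype.ext ?_)⟩
    exact Subgroup.mem_bot.1 (hker ▸ (mem_kerSubgroup hχc _).2
      (apply_V_of_lies C hM hl (by omega) v))
  have hVeq : ∀ v : C.V, v = 1 := fun v =>
    (Nat.card_eq_one_iff_unique.1 hV).1.elim v 1
  refine ⟨hV, ?_⟩
  have hinj : Function.Injective C.act :=
    (injective_iff_map_eq_one _).2 fun a ha => congrArg Subtype.val (hVeq ⟨a, ha⟩)
  -- the values on the complement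
  have hzero : ∀ a : C.H, a ≠ 1 → (χ : G → ℂ) (a : G) = 0 := by
    intro a ha
    obtain ⟨n, ρ, hρ⟩ := hχc
    have hu : (1 : ZMod p) - (C.act a : ZMod p) ≠ 0 := sub_ne_zero.2 fun e => ha (hinj (by
      rw [map_one]
      exact Units.ext e.symm))
    have hconst : ∀ i : ZMod p, (χ : G → ℂ) (C.yP i * (a : G)) = (χ : G → ℂ) (a : G) := by
      intro i
      set j := i * (1 - (C.act a : ZMod p))⁻¹
      rw [← isClassFunction_irr χ (a : G) (C.yP j)]
      congr 1
      have h1 := mul_inv_eq_iff_eq_mul.1 (C.conj_yP a (-j))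
      rw [← C.yP_neg, mul_assoc, h1, ← mul_assoc, ← C.yP_add]
      congr 2
      rw [mul_neg, ← sub_eq_add_neg, show j - (C.act a : ZMod p) * j =
        j * (1 - (C.act a : ZMod p)) by ring, mul_assoc, inv_mul_cancel₀ hu, mul_one]
    set E : Module.End ℂ (Fin n → ℂ) := (p : ℂ)⁻¹ • ∑ i : ZMod p, ρ (C.yP i) with hE
    have hp0 : (p : ℂ) ≠ 0 := Nat.cast_ne_zero.2 hp.ne_zero
    have hshift : ∀ j : ZMod p, ρ (C.yP j) * E = E := by
      intro j
      rw [hE, mul_smul_comm, Finset.mul_sum]
      congr 1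
      exact Fintype.sum_equiv (Equiv.addLeft j) _ _ fun i => by rw [← map_mul, ← C.yP_add]; rfl
    have hEE : IsIdempotentElem E := by
      show E * E = E
      conv_lhs => arg 1; rw [hE]
      rw [smul_mul_assoc, Finset.sum_mul, Finset.sum_congr rfl fun j _ => hshift j, Finset.sum_const,
        Finset.card_univ, ZMod.card, ← Nat.cast_smul_eq_nsmul ℂ, smul_smul, inv_mul_cancel₀ hp0,
        one_smul]
    have htr : ∀ g : G, LinearMap.trace ℂ _ (E * ρ g) =
        (p : ℂ)⁻¹ * ∑ i : ZMod p, (χ : G → ℂ) (C.yP i * g) := by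
      intro g
      rw [hE, smul_mul_assoc, map_smul, smul_eq_mul, Finset.sum_mul, map_sum, ← hρ]
      exact congrArg _ (Finset.sum_congr rfl fun i _ => by rw [← map_mul]; rfl)
    have hE0 : E = 0 := by
      have h1 := htr 1
      simp only [mul_one] at h1
      rw [map_one ρ, mul_one] at h1
      rw [Cyc.sum_units_eq, C.yP_zero, irr_apply_one_eq_deg,
        Finset.sum_congr rfl fun (i : (ZMod p)ˣ) _ => hv i i.ne_zero, Finset.sum_const,
        Finset.card_univ, ZMod.card_units, nsmul_eq_mul, mul_neg_one,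
        show p - 1 = deg (χ : G → ℂ) by omega, add_neg_cancel, mul_zero] at h1
      rw [(LinearMap.IsIdempotentElem.isProj_range E hEE).trace] at h1
      have h2 : Module.finrank ℂ (LinearMap.range E) = 0 := by exact_mod_cast h1
      exact LinearMap.range_eq_bot.1 (Submodule.finrank_eq_zero.1 h2)
    have h1 := htr (a : G)
    rw [hE0, zero_mul, map_zero, Finset.sum_congr rfl fun i _ => hconst i, Finset.sum_const,
      Finset.card_univ, ZMod.card, nsmul_eq_mul, ← mul_assoc, inv_mul_cancel₀ hp0, one_mul] at h1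
    exact h1.symm
  have hcyc : IsCyclic C.H := isCyclic_of_injective C.act hinj
  obtain ⟨a, ha⟩ := IsCyclic.exists_generator (α := C.H)
  have hH : Nat.card C.H = eC C := by rw [card_H C, hV, mul_one]
  have hm := index_mul_eC C
  set t := (C.E (C.oneV : C.V → ℂ)).index with ht
  obtain ⟨f, hf⟩ := detChar_is_hom hχc
  have h1 := congrFun hf (a : G)
  rw [map_eq_one_of_perfect hC.perfect f (fun _ _ => mul_comm _ _), Units.val_one] at h1
  rw [detChar_restrict C.H hχc (ϑ := fun x : C.H => (χ : G → ℂ) x) (fun _ => rfl) a,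
    detChar_regular t (a := a) (by
      show (χ : G → ℂ) 1 = _
      rw [irr_apply_one_eq_deg, ← Nat.card_eq_fintype_card, hH, hm]
      congr 1
      omega) (fun b hb => hzero b hb) ha,
    neg_one_pow_eq_one_iff_even (by norm_num), ← Nat.card_eq_fintype_card, hH, Nat.even_mul] at h1
  rcases h1 with h1 | h1
  · have h2 : Even (t * eC C) := hm ▸ hp.even_sub_one (by omega)
    exact (Nat.even_mul.1 h2).resolve_right fun h3 => Nat.even_add_one.1 h1 h3
  · exact h1

end Core

end Cfsg.Lib.Blocks.SylowCount
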