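import Mathlib
import Cfsg.Agent.Blocks.SylowCount.Core

/-!
# The arithmetic of the trichotomy
-/

set_option autoImplicit false

namespace Cfsg.Lib.Blocks.SylowCount

open SmallOrder

variable {p e t n N x : ℕ}

/-- A suitable divisor gives the form. -/
lemma fform_of_dvd (hp : 1 ≤ p) (hN : N = 1 + n * p) {D u : ℕ} (hD : D = u * p + 1) (hu : 0 < u)
    (hdvd : D ∣ N * (p - 1)) (hlt : D < N) : FForm p n := by
  have h1 : D ∣ N * (u + 1) := by
    have h2 : N * D = N * (p - 1) * u + N * (u + 1) := by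
      obtain ⟨q, rfl⟩ := Nat.exists_eq_add_of_le hp
      rw [Nat.add_sub_cancel_left, hD]
      ring
    exact (Nat.dvd_add_iff_right (hdvd.mul_right u)).2 (h2 ▸ dvd_mul_left D N)
  obtain ⟨Q, hQ⟩ := h1
  have hlt' : u + 1 < Q := by
    by_contra hle
    have h3 : D * Q ≤ D * (u + 1) := Nat.mul_le_mul_left _ (Nat.le_of_not_lt hle)
    rw [← hQ] at h3
    have h4 : D * (u + 1) < N * (u + 1) := Nat.mul_lt_mul_of_pos_right hlt (by omega)
    omega
  obtain ⟨d, rfl⟩ := Nat.exists_eq_add_of_le hlt'.le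
  have e1 : ((N : ℤ) * (u + 1)) = (D : ℤ) * ((u : ℤ) + 1 + d) := by exact_mod_cast hQ
  have hN' : (N : ℤ) = 1 + n * p := by exact_mod_cast hN
  have hD' : (D : ℤ) = u * p + 1 := by exact_mod_cast hD
  obtain ⟨h, hh⟩ : (p : ℤ) ∣ (d : ℤ) := ⟨(n : ℤ) * (u + 1) - u * (u + 1 + d), by
    linear_combination -e1 + ((u : ℤ) + 1) * hN' - ((u : ℤ) + 1 + d) * hD'⟩
  have hp0 : (0 : ℤ) < p := by exact_mod_cast hp
  have hd0 : (0 : ℤ) < d := by omega
  have hpos : 0 < h := pos_of_mul_pos_right (hh ▸ hd0) hp0.le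
  obtain ⟨h', rfl⟩ : ∃ h' : ℕ, h = (h' : ℤ) := ⟨h.toNat, (Int.toNat_of_nonneg hpos.le).symm⟩
  refine ⟨h', u, by omega, hu, ?_⟩
  zify
  refine mul_left_cancel₀ hp0.ne' ?_
  linear_combination e1 - ((u : ℤ) + 1) * hN' + ((u : ℤ) + 1 + d) * hD' +
    ((u : ℤ) * p + 1) * hh

/-- A product of two nontrivial numbers congruent to one gives the form. -/
lemma fform_of_mul (hp : 0 < p) {a c : ℕ} (ha : 0 < a) (hc : 0 < c)
    (h : 1 + n * p = (1 + a * p) * (1 + c * p)) : FForm p n := by
  refine ⟨c * (a + 1), a, by positivity, ha, ?_⟩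
  have h1 : n = a + c + a * c * p := Nat.eq_of_mul_eq_mul_right hp (by linarith)
  rw [h1]
  ring

variable (hp : p.Prime) (hte : t * e + 1 = p) (hN : N = 1 + n * p) (hdvd : x ∣ N * e)
include hp hte hN hdvd

/-- An exceptional degree congruent to `e`. -/
lemma exc_plus' (he : 0 < e) (hcong : (p : ℤ) ∣ (x : ℤ) - e) :
    x = e ∨ x = N * e ∨ FForm p n := by
  have ht : 0 < t := by
    rcases Nat.eq_zero_or_pos t with rfl | h
    · have := hp.two_le
      omega
    · exact h
  have hep : e < p := by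
    have : 1 * e ≤ t * e := Nat.mul_le_mul_right _ ht
    omega
  obtain ⟨s, hs⟩ := hdvd
  have hs' : (x : ℤ) * s = N * e := by exact_mod_cast hs.symm
  have hN' : (N : ℤ) = 1 + n * p := by exact_mod_cast hN
  have h1 : (p : ℤ) ∣ (e : ℤ) * ((s : ℤ) - 1) := by
    rw [show (e : ℤ) * ((s : ℤ) - 1) = (p : ℤ) * (n * e) - ((x : ℤ) - e) * s by
      linear_combination hs' + (e : ℤ) * hN']
    exact dvd_sub (dvd_mul_right _ _) (hcong.mul_right _)
  have h2 : (p : ℤ) ∣ (s : ℤ) - 1 := ((Nat.prime_iff_prime_int.1 hp).dvd_mul.1 h1).resolve_left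
    fun h => by
      have := Nat.le_of_dvd he (Int.natCast_dvd_natCast.1 h)
      omega
  obtain ⟨h, hh⟩ := exists_add hp.one_lt (x := s) (r := 1) (by exact_mod_cast h2)
  rcases Nat.eq_zero_or_pos h with rfl | hh0
  · refine Or.inr (Or.inl ?_)
    rw [hs, hh]
    ring
  rcases lt_trichotomy s N with hlt | rfl | hgt
  · refine Or.inr (Or.inr (fform_of_dvd (by omega) hN hh hh0 ?_ hlt))
    rw [show p - 1 = t * e by omega, mul_left_comm, hs, ← mul_assoc]
    exact dvd_mul_left _ _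
  · exact Or.inl (Nat.eq_of_mul_eq_mul_left (by omega) (hs.trans (mul_comm _ _))).symm
  · exfalso
    obtain ⟨q, hq⟩ := exists_add hep hcong
    have h3 : e * (N + 1) ≤ x * s := Nat.mul_le_mul (by omega) (by omega)
    rw [← hs, mul_comm e] at h3
    nlinarith

/-- An exceptional degree congruent to `-e`. -/
lemma exc_minus' (he : 0 < e) (hcong : (p : ℤ) ∣ (x : ℤ) + e) :
    t * x = N ∨ (t = 1 ∧ x = 1) ∨ FForm p n := by
  obtain ⟨s, hs⟩ := hdvd
  have hs' : (x : ℤ) * s = N * e := by exact_mod_cast hs.symm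
  have hN' : (N : ℤ) = 1 + n * p := by exact_mod_cast hN
  have hte' : (t : ℤ) * e + 1 = p := by exact_mod_cast hte
  have ht : 0 < t := by
    rcases Nat.eq_zero_or_pos t with rfl | h
    · have := hp.two_le
      omega
    · exact h
  have hep : e < p := by
    have : 1 * e ≤ t * e := Nat.mul_le_mul_right _ ht
    omega
  have h1 : (p : ℤ) ∣ (e : ℤ) * ((s : ℤ) + 1) := by
    rw [show (e : ℤ) * ((s : ℤ) + 1) = ((x : ℤ) + e) * s - (p : ℤ) * (n * e) by
      linear_combination -hs' - (e : ℤ) * hN']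
    exact dvd_sub (hcong.mul_right _) (dvd_mul_right _ _)
  have h2 : (p : ℤ) ∣ (s : ℤ) + 1 := ((Nat.prime_iff_prime_int.1 hp).dvd_mul.1 h1).resolve_left
    fun h => by
      have := Nat.le_of_dvd he (Int.natCast_dvd_natCast.1 h)
      omega
  obtain ⟨q, hq0, hq⟩ := exists_sub he hcong
  obtain ⟨h, hh0, hh⟩ := exists_sub (x := s) (r := 1) one_pos (by exact_mod_cast h2)
  have hq' : (x : ℤ) + e = q * p := by exact_mod_cast hq
  obtain ⟨u, hu⟩ := Nat.exists_eq_add_of_le (show 1 ≤ t * q from Nat.mul_pos ht hq0)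
  have hu' : (t : ℤ) * q = 1 + u := by exact_mod_cast hu
  have hT : t * x = u * p + 1 := by
    zify
    linear_combination (t : ℤ) * hq' + (p : ℤ) * hu' - hte'
  rcases Nat.eq_zero_or_pos u with rfl | hu0
  · refine Or.inr (Or.inl ?_)
    rw [add_zero] at hu
    rw [zero_mul, zero_add] at hT
    exact ⟨Nat.eq_one_of_mul_eq_one_right hu, Nat.eq_one_of_mul_eq_one_left hT⟩
  rcases lt_trichotomy (t * x) N with hlt | he' | hgt
  · refine Or.inr (Or.inr (fform_of_dvd (by omega) hN hT hu0 ?_ hlt))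
    rw [show p - 1 = t * e by omega, mul_left_comm, hs, ← mul_assoc]
    exact dvd_mul_right _ _
  · exact Or.inl he'
  · exfalso
    have hp1 : p ≤ h * p := Nat.le_mul_of_pos_left _ hh0
    have h4 : N * (p - 1) < t * x * s := by
      refine lt_of_lt_of_le (Nat.mul_lt_mul_of_pos_right hgt ?_) (Nat.mul_le_mul_left _ ?_)
      · have := hp.two_le; omega
      · omega
    rw [mul_assoc, ← hs, show p - 1 = t * e by omega, mul_left_comm] at h4
    exact lt_irrefl _ h4

/-- An ordinary degree congruent to `1`. -/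
lemma ord_plus' (he : 0 < e) (hcong : (p : ℤ) ∣ (x : ℤ) - 1) :
    x = 1 ∨ x = N ∨ FForm p n := by
  obtain ⟨q, hq⟩ := exists_add hp.one_lt (x := x) (r := 1) (by exact_mod_cast hcong)
  rcases Nat.eq_zero_or_pos q with rfl | hq0
  · exact Or.inl (by simpa using hq)
  rcases lt_trichotomy x N with hlt | rfl | hgt
  · refine Or.inr (Or.inr (fform_of_dvd (by omega) hN hq hq0 ?_ hlt))
    rw [show p - 1 = t * e by omega, mul_left_comm]
    exact hdvd.mul_left t
  · exact Or.inr (Or.inl rfl)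
  · exfalso
    obtain ⟨s, hs⟩ := hdvd
    have ht : 0 < t := by
      rcases Nat.eq_zero_or_pos t with rfl | h
      · have := hp.two_le
        omega
      · exact h
    have hep : e < p := by
      have : 1 * e ≤ t * e := Nat.mul_le_mul_right _ ht
      omega
    have hs' : (x : ℤ) * s = N * e := by exact_mod_cast hs.symm
    have hN' : (N : ℤ) = 1 + n * p := by exact_mod_cast hN
    have h2 : (p : ℤ) ∣ (s : ℤ) - e := by
      rw [show (s : ℤ) - e = (p : ℤ) * (n * e) - ((x : ℤ) - 1) * s by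
        linear_combination hs' + (e : ℤ) * hN']
      exact dvd_sub (dvd_mul_right _ _) (hcong.mul_right _)
    obtain ⟨h, hh⟩ := exists_add hep h2
    have h4 : N * e < x * s :=
      lt_of_lt_of_le (Nat.mul_lt_mul_of_pos_right hgt he) (Nat.mul_le_mul_left _ (by omega))
    omega

/-- An ordinary degree congruent to `-1`. -/
lemma ord_minus' (he : 0 < e) (hcong : (p : ℤ) ∣ (x : ℤ) + 1) :
    x + 1 = p ∨ (t = 1 ∧ x = N * (p - 1)) ∨ FForm p n := by
  obtain ⟨s, hs⟩ := hdvd
  have hs' : (x : ℤ) * s = N * e := by exact_mod_cast hs.symm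
  have hN' : (N : ℤ) = 1 + n * p := by exact_mod_cast hN
  have hte' : (t : ℤ) * e + 1 = p := by exact_mod_cast hte
  have ht : 0 < t := by
    rcases Nat.eq_zero_or_pos t with rfl | h
    · have := hp.two_le
      omega
    · exact h
  have h2 : (p : ℤ) ∣ (s : ℤ) + e := by
    rw [show (s : ℤ) + e = ((x : ℤ) + 1) * s - (p : ℤ) * (n * e) by
      linear_combination -hs' - (e : ℤ) * hN']
    exact dvd_sub (hcong.mul_right _) (dvd_mul_right _ _)
  obtain ⟨q, hq0, hq⟩ := exists_sub (x := x) (r := 1) one_pos (by exact_mod_cast hcong)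
  obtain ⟨h, hh0, hh⟩ := exists_sub he h2
  have hh' : (s : ℤ) + e = h * p := by exact_mod_cast hh
  obtain ⟨u, hu⟩ := Nat.exists_eq_add_of_le (show 1 ≤ t * h from Nat.mul_pos ht hh0)
  have hu' : (t : ℤ) * h = 1 + u := by exact_mod_cast hu
  have hS : t * s = u * p + 1 := by
    zify
    linear_combination (t : ℤ) * hh' + (p : ℤ) * hu' - hte'
  have hprod : N * (p - 1) = x * (t * s) := by
    rw [show p - 1 = t * e by omega, mul_left_comm, hs, mul_left_comm]
  rcases Nat.eq_zero_or_pos u with rfl | hu0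
  · refine Or.inr (Or.inl ?_)
    rw [add_zero] at hu
    rw [zero_mul, zero_add] at hS
    refine ⟨Nat.eq_one_of_mul_eq_one_right hu, ?_⟩
    rw [hprod, hS, mul_one]
  rcases lt_trichotomy (t * s) N with hlt | he' | hgt
  · exact Or.inr (Or.inr (fform_of_dvd (by omega) hN hS hu0 (hprod ▸ dvd_mul_left _ _) hlt))
  · refine Or.inl ?_
    rw [he', mul_comm N] at hprod
    have := Nat.eq_of_mul_eq_mul_right (by omega) hprod
    omega
  · exfalso
    have h3 : p ≤ x + 1 := hq ▸ Nat.le_mul_of_pos_left _ hq0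
    have h4 : (p - 1) * N < x * (t * s) :=
      lt_of_lt_of_le (Nat.mul_lt_mul_of_pos_left hgt (by have := hp.two_le; omega))
        (Nat.mul_le_mul_right _ (by omega))
    rw [← hprod, mul_comm] at h4
    exact lt_irrefl _ h4

end Cfsg.Lib.Blocks.SylowCount
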