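import Mathlib
import Cfsg.Agent.Blocks.SylowCount.Arith

/-!
# The degrees in the exceptional case
-/

set_option autoImplicit false
set_option linter.unusedSectionVars false

namespace Cfsg.Lib.Blocks.SylowCount

open Cfsg.Lib.Chars SmallOrder
open scoped ComplexConjugate _root_.Classical

universe u

variable {G : Type u} [Group G] [Fintype G] {p : ℕ} [Fact p.Prime] {M : Ideal AlgInt}
  {C : Cyc G p} {ν : (ZMod p)ˣ → IrrCharacter G} {δ : ℤ}

/-- The number of Sylow subgroups is not of the special form. -/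
def NoForm (C : Cyc G p) : Prop := ∀ n, idx C = 1 + n * p → ¬ FForm p n

theorem index_eq : (C.E (C.oneV : C.V → ℂ)).index * eC C + 1 = p := by
  have := index_mul_eC C
  have := (Fact.out : p.Prime).two_le
  omega

theorem lies_oneG : C.Lies (oneG G) C.oneV := by
  by_contra hl
  have h1 := C.mu_eq_zero_of_not_lies hl (one_ne_zero (α := ZMod p))
  rw [C.mu_oneV (η := oneG G) (fun _ => rfl)] at h1
  exact one_ne_zero (α := ℂ) h1

theorem bI_oneG' (hM : IsPModular p M) (hD : C.OrbitData C.oneV ν δ)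
    (hr : oneG G ∉ Set.range ν) : C.bI (oneG G) C.oneV 1 = 1 := by
  have h1 := apply_yP_ord hM hD hr lies_oneG (one_ne_zero (α := ZMod p))
  exact Int.cast_injective (α := ℂ) (by rw [Int.cast_one, ← h1]; rfl)

theorem not_range_of_deg {χ : IrrCharacter G} (hD : C.OrbitData C.oneV ν δ)
    (hne : deg (χ : G → ℂ) ≠ deg (ν 1 : G → ℂ)) : χ ∉ Set.range ν := by
  rintro ⟨u, rfl⟩
  exact hne (deg_exc hD u)

namespace Core

variable (hC : Core C) (hno : NoForm C)
include hC hno

theorem ord_cases' (hM : IsPModular p M) (hD : C.OrbitData C.oneV ν δ) {χ : IrrCharacter G}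
    (hχ : χ ∈ ordSet C ν) :
    (C.bI χ C.oneV 1 = 1 ∧ (χ = oneG G ∨ deg (χ : G → ℂ) = idx C)) ∨
      (C.bI χ C.oneV 1 = -1 ∧ (deg (χ : G → ℂ) + 1 = p ∨
        ((C.E (C.oneV : C.V → ℂ)).index = 1 ∧ deg (χ : G → ℂ) = idx C * (p - 1)))) := by
  obtain ⟨hl, hr⟩ := mem_ordSet.1 hχ
  obtain ⟨n, -, hn⟩ := hC.exists_idx
  have hcong := congr_ord hM hD hr hl
  have hdvd := dvd_ord hM hD hr hl
  have hpr := (Fact.out : p.Prime)
  have he : 0 < eC C := lt_of_lt_of_le Nat.zero_lt_two hC.two_le_eC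
  rcases hD.sign_diff (χ := χ) ⟨hl, hr⟩ with e | e <;> rw [e] at hcong
  · refine Or.inl ⟨e, ?_⟩
    rcases ord_plus' hpr index_eq hn hdvd he hcong with hd | hd | hf
    · exact Or.inl (eq_one_of_deg_one hC.perfect hd)
    · exact Or.inr hd
    · exact absurd hf (hno n hn)
  · rw [sub_neg_eq_add] at hcong
    refine Or.inr ⟨e, ?_⟩
    rcases ord_minus' hpr index_eq hn hdvd he hcong with hd | hd | hf
    · exact Or.inl hd
    · exact Or.inr hd
    · exact absurd hf (hno n hn)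

theorem term_le (hM : IsPModular p M) (hD : C.OrbitData C.oneV ν δ) {χ : IrrCharacter G}
    (hχ : χ ∈ ordSet C ν) :
    C.bI χ C.oneV 1 * (deg (χ : G → ℂ) : ℤ) ≤ (idx C : ℤ) := by
  have := hC.lt_idx
  rcases hC.ord_cases' hno hM hD hχ with ⟨e, h | h⟩ | ⟨e, -⟩ <;> rw [e]
  · rw [h, deg_oneG]
    omega
  · rw [h, one_mul]
  · omega

/-- The positive sign. -/
theorem plus_iso (hM : IsPModular p M) (hD : C.OrbitData C.oneV ν 1) :
    3 < p ∧ Nonempty (G ≃* Matrix.ProjectiveSpecialLinearGroup (Fin 2) (ZMod p)) := by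
  have hpr := (Fact.out : p.Prime)
  have he2 := hC.two_le_eC
  have hte := index_eq (C := C)
  obtain ⟨n, -, hn⟩ := hC.exists_idx
  have hNp := hC.lt_idx
  have hcong := congr_exc hM hD
  rw [one_mul] at hcong
  rcases exc_plus' hpr hte hn (dvd_exc hM hD) (by omega) hcong with hx | hx | hf
  rotate_left
  · exfalso
    have h1 : oneG G ∈ ordSet C ν := by
      refine mem_ordSet.2 ⟨lies_oneG, not_range_of_deg hD ?_⟩
      rw [deg_oneG, hx]
      intro e
      have := Nat.eq_one_of_mul_eq_one_right e.symm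
      omega
    have h2 := relation hD
    rw [← Finset.add_sum_erase _ _ h1, bI_oneG' hM hD (mem_ordSet.1 h1).2, deg_oneG, hx] at h2
    have h3 := Finset.sum_le_card_nsmul ((ordSet C ν).erase (oneG G))
      (fun χ => C.bI χ C.oneV 1 * (deg (χ : G → ℂ) : ℤ)) (idx C : ℤ)
      fun χ hχ => hC.term_le hno hM hD (Finset.mem_of_mem_erase hχ)
    rw [Finset.card_erase_of_mem h1, card_ordSet hD, nsmul_eq_mul, Nat.cast_sub (by omega)] at h3
    push_cast at h2 h3
    nlinarith
  · exact absurd hf (hno n hn)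
  have hne : (C.E (C.oneV : C.V → ℂ)).index ≠ 1 := by
    intro ht
    rw [ht] at hte
    have hE : C.E (C.oneV : C.V → ℂ) = ⊤ := Subgroup.index_eq_one.1 ht
    have h1 := hC.low_char hM (lies_exc hD 1) (by omega) (fun i hi => by
      rw [apply_yP_exc hM hD 1 hi, Int.cast_one, one_mul, Finset.filter_true_of_mem fun v _ =>
        (hD.eq_iff v 1).2 (by rw [hE]; trivial), Cyc.sum_units_psi hi])
    rw [ht] at h1
    exact Nat.not_even_one h1.2
  have ht2 : 2 ≤ (C.E (C.oneV : C.V → ℂ)).index := by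
    have : 0 < (C.E (C.oneV : C.V → ℂ)).index := Nat.pos_of_ne_zero Subgroup.index_ne_zero_of_finite
    omega
  have h2e : 2 * eC C + 1 ≤ p := by
    have : 2 * eC C ≤ (C.E (C.oneV : C.V → ℂ)).index * eC C := Nat.mul_le_mul_right _ ht2
    omega
  refine ⟨by omega, ?_⟩
  have hχc := isCharacter_of_irr (ν 1).2
  have hker : kerSubgroup (ν 1 : G → ℂ) hχc = ⊥ := by
    by_contra hne'
    have hy : C.y ∈ kerSubgroup (ν 1 : G → ℂ) hχc := hC.core _ (kerSubgroup_normal _) hne'
    have h := sum_units_exc hM hD 1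
    rw [Finset.sum_congr rfl fun (i : (ZMod p)ˣ) _ => show
        (ν 1 : G → ℂ) (C.yP (i : ZMod p)) = (deg (ν 1 : G → ℂ) : ℂ) by
      rw [← irr_apply_one_eq_deg]
      exact (mem_kerSubgroup _ _).1 (pow_mem hy _), Finset.sum_const, Finset.card_univ,
      ZMod.card_units, nsmul_eq_mul] at h
    have h' : (((p - 1) * deg (ν 1 : G → ℂ) + eC C : ℕ) : ℂ) = 0 := by
      push_cast at h ⊢
      linear_combination h
    have := Nat.cast_eq_zero.1 h'
    omega
  have hfaith : ∀ g : G, (ν 1 : G → ℂ) g = (ν 1 : G → ℂ) 1 → g = 1 := fun g hg =>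
    Subgroup.mem_bot.1 (hker ▸ (mem_kerSubgroup hχc g).2 hg)
  have hlow := deg_bound_faithful C.dvd_card C.sq hC.no_normal_prime hχc hfaith
  obtain ⟨σ⟩ := HalfDegree.iso_psl_of_half_degree C.dvd_card C.sq hC.no_normal_prime hχc hfaith rfl
    (show 2 * deg (ν 1 : G → ℂ) + 1 = p by omega) (by omega)
  exact ⟨((QuotientGroup.quotientMulEquivOfEq hC.center_eq_bot).trans
    QuotientGroup.quotientBot).symm.trans σ⟩

/-- In the negative case there is a character of degree `p - 1`. -/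
theorem exists_low (hM : IsPModular p M) (hD : C.OrbitData C.oneV ν (-1)) :
    ∃ χ ∈ ordSet C ν, C.bI χ C.oneV 1 = -1 ∧ deg (χ : G → ℂ) + 1 = p := by
  by_contra hall
  push Not at hall
  have hpr := (Fact.out : p.Prime)
  have hte := index_eq (C := C)
  obtain ⟨n, -, hn⟩ := hC.exists_idx
  have hNp := hC.lt_idx
  have he2 := hC.two_le_eC
  have hp3 := hC.three_le
  have hrel := relation hD
  have hx0 := deg_irr_pos (ν 1)
  obtain ⟨χ₀, hχ₀, hneg⟩ : ∃ χ ∈ ordSet C ν, C.bI χ C.oneV 1 * (deg (χ : G → ℂ) : ℤ) < 0 := by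
    by_contra hno'
    push Not at hno'
    have h1 : (0 : ℤ) ≤ ∑ χ ∈ ordSet C ν, C.bI χ C.oneV 1 * (deg (χ : G → ℂ) : ℤ) :=
      Finset.sum_nonneg hno'
    omega
  rcases hC.ord_cases' hno hM hD hχ₀ with ⟨e, -⟩ | ⟨e, hd | ⟨ht, hd⟩⟩
  · rw [e, one_mul] at hneg
    omega
  · exact hall χ₀ hχ₀ e hd
  rw [ht, one_mul] at hte
  have he' : eC C = p - 1 := by omega
  rw [← Finset.add_sum_erase _ _ hχ₀, e, hd] at hrel
  have hcard : ((ordSet C ν).erase χ₀).card = p - 2 := by
    rw [Finset.card_erase_of_mem hχ₀, card_ordSet hD]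
    omega
  have hcong := congr_exc hM hD
  rw [neg_one_mul, sub_neg_eq_add] at hcong
  rcases exc_minus' hpr index_eq hn (dvd_exc hM hD) (by omega) hcong with hx | ⟨-, hx⟩ | hf
  · rw [ht, one_mul] at hx
    have h1 : oneG G ∈ (ordSet C ν).erase χ₀ := by
      refine Finset.mem_erase.2 ⟨fun e' => ?_, mem_ordSet.2 ⟨lies_oneG, not_range_of_deg hD ?_⟩⟩
      · rw [← e', deg_oneG] at hd
        have : p - 1 ≤ idx C * (p - 1) := Nat.le_mul_of_pos_left _ (by omega)
        omega
      · rw [deg_oneG, hx]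
        omega
    have h3 := Finset.sum_le_card_nsmul (((ordSet C ν).erase χ₀).erase (oneG G))
      (fun χ => C.bI χ C.oneV 1 * (deg (χ : G → ℂ) : ℤ)) (idx C : ℤ)
      fun χ hχ => hC.term_le hno hM hD (Finset.mem_of_mem_erase (Finset.mem_of_mem_erase hχ))
    rw [Finset.card_erase_of_mem h1, hcard, nsmul_eq_mul, Nat.cast_sub (by omega),
      Nat.cast_sub (by omega)] at h3
    rw [← Finset.add_sum_erase _ _ h1, bI_oneG' hM hD
      (mem_ordSet.1 (Finset.mem_of_mem_erase h1)).2, deg_oneG, hx] at hrel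
    push_cast [Nat.cast_sub hpr.one_le] at hrel h3
    nlinarith
  · have h3 := Finset.sum_le_card_nsmul ((ordSet C ν).erase χ₀)
      (fun χ => C.bI χ C.oneV 1 * (deg (χ : G → ℂ) : ℤ)) (idx C : ℤ)
      fun χ hχ => hC.term_le hno hM hD (Finset.mem_of_mem_erase hχ)
    rw [hcard, nsmul_eq_mul, Nat.cast_sub (by omega)] at h3
    rw [hx] at hrel
    push_cast [Nat.cast_sub hpr.one_le] at hrel h3
    nlinarith
  · exact hno n hn hf

end Core

/-- The remaining case: self-centralizing with even index. -/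
structure Rem (M : Ideal AlgInt) (C : Cyc G p) (ν : (ZMod p)ˣ → IrrCharacter G) : Prop where
  modular : IsPModular p M
  hyp : Core C
  data : C.OrbitData C.oneV ν (-1)
  V_one : Nat.card C.V = 1
  even_index : Even (C.E (C.oneV : C.V → ℂ)).index
  idx_eq : idx C = (C.E (C.oneV : C.V → ℂ)).index * deg (ν 1 : G → ℂ)
  noForm : NoForm C

theorem Core.rem_of_minus (hC : Core C) (hno : NoForm C) (hM : IsPModular p M)
    (hD : C.OrbitData C.oneV ν (-1)) : Rem M C ν := by
  obtain ⟨χ, hχ, hb, hd⟩ := hC.exists_low hno hM hD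
  obtain ⟨hl, hr⟩ := mem_ordSet.1 hχ
  obtain ⟨hV, hev⟩ := hC.low_char hM hl hd fun i hi => by
    rw [apply_yP_ord hM hD hr hl hi, hb, Int.cast_neg, Int.cast_one]
  refine ⟨hM, hC, hD, hV, hev, ?_, hno⟩
  obtain ⟨n, -, hn⟩ := hC.exists_idx
  have hcong := congr_exc hM hD
  rw [neg_one_mul, sub_neg_eq_add] at hcong
  rcases exc_minus' (Fact.out : p.Prime) index_eq hn (dvd_exc hM hD)
    (lt_of_lt_of_le Nat.zero_lt_two hC.two_le_eC) hcong with hx | ⟨ht, -⟩ | hf
  · exact hx.symm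
  · rw [ht] at hev
    exact absurd hev Nat.not_even_one
  · exact absurd hf (hno n hn)

end Cfsg.Lib.Blocks.SylowCount
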