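import Mathlib
import Cfsg.Agent.Blocks.SylowCount.Structure
import Cfsg.Agent.Chars.DefectZero

/-!
# The self-centralizing case with even index
-/

set_option autoImplicit false
set_option linter.unusedSectionVars false

namespace Cfsg.Lib.Blocks.SylowCount

open Cfsg.Lib.Chars SmallOrder
open SmallOrder.Neg (bigSet lowSet)
open scoped ComplexConjugate _root_.Classical

universe u

variable {G : Type u} [Group G] [Fintype G] {p : ℕ} [Fact p.Prime] {M : Ideal AlgInt}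
  {C : Cyc G p} {ν : (ZMod p)ˣ → IrrCharacter G}

/-- A character with degree of full `l`-part vanishes on the `l`-singular elements. -/
theorem apply_eq_zero_of_full {χ : IrrCharacter G} {l m : ℕ} (hl : l.Prime)
    (h : Nat.card G = deg (χ : G → ℂ) * m) (hlm : ¬ l ∣ m) {g : G} (hg : l ∣ orderOf g) :
    (χ : G → ℂ) g = 0 := by
  refine eq_zero_of_defect_zero χ.2 hl (n := (Nat.card G).factorization l)
    (Nat.ordProj_dvd _ _) (fun h1 => ?_) ?_ hg
  · have := (hl.pow_dvd_iff_le_factorization Nat.card_pos.ne').1 h1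
    omega
  · refine Nat.Coprime.dvd_of_dvd_mul_right (m := deg (χ : G → ℂ)) (n := m) ?_
      (h ▸ Nat.ordProj_dvd _ _)
    exact (hl.coprime_iff_not_dvd.2 hlm).pow_left _

namespace Rem

variable (h : Rem M C ν)
include h

theorem V_eq (v : C.V) : v = 1 :=
  (Nat.card_eq_one_iff_unique.1 h.V_one).1.elim v 1

theorem card_H_eq : Nat.card C.H = eC C := by rw [card_H C, h.V_one, mul_one]

theorem card_G : Nat.card G = idx C * p * eC C := by rw [card_eq C, h.V_one, mul_one]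

theorem eq_oneV (θ : IrrCharacter C.V) : θ = C.oneV := by
  have hcomm : ∀ a b : C.V, a * b = b * a := fun a b => by rw [h.V_eq a, h.V_eq b]
  refine Subtype.ext (funext fun v => ?_)
  rw [h.V_eq v, irr_deg_one_of_comm hcomm θ.2]
  rfl

theorem lies_of_ne_zero (χ : IrrCharacter G) (hχ : (χ : G → ℂ) C.y ≠ 0) : C.Lies χ C.oneV := by
  obtain ⟨P, hP⟩ := h.hyp.sylow
  by_contra hl
  exact hχ (C.apply_singular_of_forall_not_lies (fun θ => h.eq_oneV θ ▸ hl) P hP
    (dvd_of_eq C.order.symm))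

theorem two_le_index : 2 ≤ (C.E (C.oneV : C.V → ℂ)).index := by
  obtain ⟨k, hk⟩ := h.even_index
  have : 0 < (C.E (C.oneV : C.V → ℂ)).index := Nat.pos_of_ne_zero Subgroup.index_ne_zero_of_finite
  omega

theorem two_mul_eC : 2 * eC C + 1 ≤ p := by
  have := index_eq (C := C)
  have : 2 * eC C ≤ (C.E (C.oneV : C.V → ℂ)).index * eC C := Nat.mul_le_mul_right _ h.two_le_index
  omega

theorem five_le : 5 ≤ p := by
  have := h.two_mul_eC
  have := h.hyp.two_le_eC
  omega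

theorem exists_q : ∃ q, 0 < q ∧ deg (ν 1 : G → ℂ) + eC C = q * p := by
  have hcong := congr_exc h.modular h.data
  rw [neg_one_mul, sub_neg_eq_add] at hcong
  exact exists_sub (lt_of_lt_of_le Nat.zero_lt_two h.hyp.two_le_eC) hcong

theorem lt_deg : eC C < deg (ν 1 : G → ℂ) := by
  obtain ⟨q, hq, hqp⟩ := h.exists_q
  have := h.two_mul_eC
  have : p ≤ q * p := Nat.le_mul_of_pos_left _ hq
  omega

theorem oneG_mem : oneG G ∈ ordSet C ν := by
  refine mem_ordSet.2 ⟨lies_oneG, not_range_of_deg h.data ?_⟩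
  rw [deg_oneG]
  have := h.lt_deg
  have := h.hyp.two_le_eC
  omega

theorem ord_cases {χ : IrrCharacter G} (hχ : χ ∈ ordSet C ν) :
    (C.bI χ C.oneV 1 = 1 ∧ (χ = oneG G ∨ deg (χ : G → ℂ) = idx C)) ∨
      (C.bI χ C.oneV 1 = -1 ∧ deg (χ : G → ℂ) + 1 = p) := by
  rcases h.hyp.ord_cases' h.noForm h.modular h.data hχ with h1 | ⟨e, hd | ⟨ht, -⟩⟩
  · exact Or.inl h1
  · exact Or.inr ⟨e, hd⟩
  · have := h.two_le_index
    omega

theorem deg_low {χ : IrrCharacter G} (hχ : χ ∈ lowSet C ν) :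
    deg (χ : G → ℂ) + 1 = p ∧ C.bI χ C.oneV 1 = -1 := by
  obtain ⟨hm, hd⟩ := Finset.mem_filter.1 hχ
  refine ⟨hd, ?_⟩
  rcases h.ord_cases hm with ⟨-, e | e⟩ | ⟨e, -⟩
  · rw [e, deg_oneG] at hd
    have := h.five_le
    omega
  · rw [e] at hd
    have := h.hyp.lt_idx
    omega
  · exact e

theorem deg_big {χ : IrrCharacter G} (hχ : χ ∈ bigSet C ν) :
    deg (χ : G → ℂ) = idx C ∧ C.bI χ C.oneV 1 = 1 := by
  obtain ⟨hm, hd⟩ := Finset.mem_filter.1 hχ
  refine ⟨hd, ?_⟩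
  rcases h.ord_cases hm with ⟨e, -⟩ | ⟨-, e⟩
  · exact e
  · rw [hd] at e
    have := h.hyp.lt_idx
    omega

theorem sum_ordSet {R : Type*} [AddCommMonoid R] (f : IrrCharacter G → R) :
    ∑ χ ∈ ordSet C ν, f χ = f (oneG G) + ∑ χ ∈ bigSet C ν, f χ + ∑ χ ∈ lowSet C ν, f χ := by
  have hdisj : Disjoint (bigSet C ν) (lowSet C ν) := Finset.disjoint_left.2 fun χ h1 h2 => by
    have := (h.deg_big h1).2
    have := (h.deg_low h2).2
    omega
  have hone : oneG G ∉ bigSet C ν ∪ lowSet C ν := by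
    rw [Finset.mem_union]
    rintro (h1 | h1) <;> have h2 := (Finset.mem_filter.1 h1).2 <;> rw [deg_oneG] at h2
    · have := h.hyp.lt_idx
      have := h.five_le
      omega
    · have := h.five_le
      omega
  have heq : ordSet C ν = insert (oneG G) (bigSet C ν ∪ lowSet C ν) := by
    ext χ
    rw [Finset.mem_insert, Finset.mem_union, bigSet, lowSet, Finset.mem_filter, Finset.mem_filter]
    refine ⟨fun hχ => ?_, ?_⟩
    · rcases h.ord_cases hχ with ⟨-, e | e⟩ | ⟨-, e⟩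
      · exact Or.inl e
      · exact Or.inr (Or.inl ⟨hχ, e⟩)
      · exact Or.inr (Or.inr ⟨hχ, e⟩)
    · rintro (rfl | ⟨hχ, -⟩ | ⟨hχ, -⟩)
      · exact h.oneG_mem
      · exact hχ
      · exact hχ
  rw [heq, Finset.sum_insert hone, Finset.sum_union hdisj, add_assoc]

theorem card_sets : 1 + (bigSet C ν).card + (lowSet C ν).card = eC C := by
  rw [← card_ordSet h.data, Finset.card_eq_sum_ones (ordSet C ν), h.sum_ordSet,
    ← Finset.card_eq_sum_ones, ← Finset.card_eq_sum_ones]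

theorem big_mul {q : ℕ} (hq : deg (ν 1 : G → ℂ) + eC C = q * p) :
    ((bigSet C ν).card : ℤ) * (C.E (C.oneV : C.V → ℂ)).index * q = (eC C : ℤ) - 1 - q := by
  have hrel := relation h.data
  rw [h.sum_ordSet, bI_oneG' h.modular h.data (mem_ordSet.1 h.oneG_mem).2, deg_oneG,
    Finset.sum_congr rfl fun (χ : IrrCharacter G) hχ => show
      C.bI χ C.oneV 1 * (deg (χ : G → ℂ) : ℤ) = (idx C : ℤ) by
      rw [(h.deg_big hχ).1, (h.deg_big hχ).2, one_mul],
    Finset.sum_congr rfl fun (χ : IrrCharacter G) hχ => show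
      C.bI χ C.oneV 1 * (deg (χ : G → ℂ) : ℤ) = 1 - (p : ℤ) by
      obtain ⟨h1, h2⟩ := h.deg_low hχ
      rw [h2]
      omega,
    Finset.sum_const, Finset.sum_const] at hrel
  simp only [nsmul_eq_mul, Nat.cast_one, mul_one] at hrel
  have h1 : ((deg (ν 1 : G → ℂ) : ℤ)) + eC C = q * p := by exact_mod_cast hq
  have h2 : (idx C : ℤ) = (C.E (C.oneV : C.V → ℂ)).index * deg (ν 1 : G → ℂ) := by
    exact_mod_cast h.idx_eq
  have h3 : (1 : ℤ) + (bigSet C ν).card + (lowSet C ν).card = eC C := by exact_mod_cast h.card_sets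
  have h4 : ((C.E (C.oneV : C.V → ℂ)).index : ℤ) * eC C + 1 = p := by exact_mod_cast index_eq (C := C)
  refine mul_left_cancel₀ (show (p : ℤ) ≠ 0 by exact_mod_cast (Fact.out : p.Prime).ne_zero) ?_
  linear_combination hrel - ((bigSet C ν).card : ℤ) * (C.E (C.oneV : C.V → ℂ)).index * h1 -
    ((bigSet C ν).card : ℤ) * h2 - (1 - (p : ℤ)) * h3 + ((bigSet C ν).card : ℤ) * h4 - h1

theorem disjoint_ord : Disjoint (ordSet C ν) (Finset.univ.image ν) :=
  Finset.disjoint_left.2 fun χ h1 h2 => by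
    obtain ⟨u, -, rfl⟩ := Finset.mem_image.1 h2
    exact (mem_ordSet.1 h1).2 ⟨u, rfl⟩

/-- The total of the degrees. -/
theorem sum_deg_le :
    ((∑ χ : IrrCharacter G, deg (χ : G → ℂ) : ℕ) : ℤ) ≤
      (bigSet C ν).card * (idx C : ℤ) + (lowSet C ν).card * ((p : ℤ) - 1) +
        (C.E (C.oneV : C.V → ℂ)).index * (deg (ν 1 : G → ℂ) : ℤ) + (idx C : ℤ) := by
  set t : ℤ := ((C.E (C.oneV : C.V → ℂ)).index : ℤ) with ht
  set U := ordSet C ν ∪ Finset.univ.image ν with hU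
  obtain ⟨P, hP⟩ := h.hyp.sylow
  have hF : ∀ F : ℕ → ℤ, ∑ χ ∈ U, F (deg (χ : G → ℂ)) = F 1 + (bigSet C ν).card * F (idx C) +
      (lowSet C ν).card * F (p - 1) + t * F (deg (ν 1 : G → ℂ)) := by
    intro F
    rw [hU, Finset.sum_union h.disjoint_ord, h.sum_ordSet, deg_oneG,
      Finset.sum_congr rfl fun (χ : IrrCharacter G) hχ => show F (deg (χ : G → ℂ)) = F (idx C) by
        rw [(h.deg_big hχ).1],
      Finset.sum_congr rfl fun (χ : IrrCharacter G) hχ => show F (deg (χ : G → ℂ)) = F (p - 1) by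
        rw [← (h.deg_low hχ).1, Nat.add_sub_cancel],
      Finset.sum_congr rfl fun (χ : IrrCharacter G) hχ => show
          F (deg (χ : G → ℂ)) = F (deg (ν 1 : G → ℂ)) by
        obtain ⟨u, -, rfl⟩ := Finset.mem_image.1 hχ
        rw [deg_exc h.data],
      Finset.sum_const, Finset.sum_const, Finset.sum_const, card_image h.data]
    simp only [nsmul_eq_mul, ht]
  have hp1 : ((p - 1 : ℕ) : ℤ) = (p : ℤ) - 1 := by
    rw [Nat.cast_sub (Fact.out : p.Prime).one_le, Nat.cast_one]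
  have hrest : ∀ χ ∈ Uᶜ, (p : ℤ) * deg (χ : G → ℂ) ≤ (deg (χ : G → ℂ) : ℤ) ^ 2 := by
    intro χ hχ
    have hnl : ∀ θ, ¬ C.Lies χ θ := by
      intro θ hl
      rw [h.eq_oneV θ] at hl
      rw [Finset.mem_compl, hU, Finset.mem_union, not_or] at hχ
      by_cases hr : χ ∈ Set.range ν
      · obtain ⟨u, rfl⟩ := hr
        exact hχ.2 (Finset.mem_image_of_mem _ (Finset.mem_univ _))
      · exact hχ.1 (mem_ordSet.2 ⟨hl, hr⟩)
    have hd : p ∣ deg (χ : G → ℂ) := C.dvd_deg_of_forall_not_lies hnl P hP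
    rw [pow_two]
    exact mul_le_mul_of_nonneg_right (by exact_mod_cast Nat.le_of_dvd (deg_irr_pos χ) hd)
      (Int.natCast_nonneg _)
  have hsq : ∑ χ ∈ Uᶜ, (deg (χ : G → ℂ) : ℤ) ^ 2 = (p : ℤ) * ((idx C : ℤ) - 1) := by
    have h1 : (∑ χ : IrrCharacter G, (deg (χ : G → ℂ) : ℤ) ^ 2) = (Nat.card G : ℤ) := by
      exact_mod_cast sum_deg_sq_nat (G := G)
    rw [← Finset.sum_add_sum_compl U, hF (fun d => (d : ℤ) ^ 2)] at h1
    simp only [Nat.cast_one, one_pow, hp1] at h1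
    obtain ⟨q, -, hq⟩ := h.exists_q
    have hb := h.big_mul hq
    have hd : ((deg (ν 1 : G → ℂ) : ℤ)) + eC C = q * p := by exact_mod_cast hq
    have hi : (idx C : ℤ) = t * deg (ν 1 : G → ℂ) := by rw [ht]; exact_mod_cast h.idx_eq
    have hm : t * eC C + 1 = (p : ℤ) := by
      rw [ht]
      exact_mod_cast index_eq (C := C)
    have hc : (1 : ℤ) + (bigSet C ν).card + (lowSet C ν).card = eC C := by exact_mod_cast h.card_sets
    have hG : (Nat.card G : ℤ) = idx C * p * eC C := by exact_mod_cast h.card_G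
    have hx : (deg (ν 1 : G → ℂ) : ℤ) = q * p - eC C := by omega
    have hc' : ((lowSet C ν).card : ℤ) = eC C - 1 - (bigSet C ν).card := by omega
    rw [← ht] at hb
    rw [hx] at h1 hi
    rw [hG, hc', hi, ← hm] at h1
    rw [hi, ← hm]
    linear_combination h1 - (t * eC C + 1) * (t * ((q : ℤ) * (t * eC C + 1) - eC C) - t * eC C) * hb
  have hle : (p : ℤ) * ∑ χ ∈ Uᶜ, (deg (χ : G → ℂ) : ℤ) ≤ (p : ℤ) * ((idx C : ℤ) - 1) := by
    rw [Finset.mul_sum]
    exact (Finset.sum_le_sum hrest).trans (le_of_eq hsq)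
  have hle' := le_of_mul_le_mul_left hle (by exact_mod_cast (Fact.out : p.Prime).pos)
  push_cast
  rw [← Finset.sum_add_sum_compl U, hF (fun d => (d : ℤ))]
  simp only [hp1, Nat.cast_one]
  linarith

/-- The relation of the values at a regular element. -/
theorem regular_relation {g : G} (hg : ¬ p ∣ orderOf g) :
    1 + ∑ χ ∈ bigSet C ν, (χ : G → ℂ) g - ∑ χ ∈ lowSet C ν, (χ : G → ℂ) g +
      (ν 1 : G → ℂ) g = 0 := by
  have h1 := h.data.regular_sum hg 1
  have h2 : (∑ χ ∈ ordSet C ν, (C.bI χ C.oneV 1 : ℂ) * (χ : G → ℂ) g) +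
      ((-(-1) : ℤ) : ℂ) * (ν 1 : G → ℂ) g = 0 := h1
  rw [h.sum_ordSet, bI_oneG' h.modular h.data (mem_ordSet.1 h.oneG_mem).2,
    Finset.sum_congr rfl fun (χ : IrrCharacter G) hχ => show
      (C.bI χ C.oneV 1 : ℂ) * (χ : G → ℂ) g = (χ : G → ℂ) g by
      rw [(h.deg_big hχ).2, Int.cast_one, one_mul],
    Finset.sum_congr rfl fun (χ : IrrCharacter G) hχ => show
      (C.bI χ C.oneV 1 : ℂ) * (χ : G → ℂ) g = -(χ : G → ℂ) g by
      rw [(h.deg_low hχ).2, Int.cast_neg, Int.cast_one, neg_one_mul],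
    Finset.sum_neg_distrib, Int.cast_one, one_mul] at h2
  rw [show (oneG G : G → ℂ) g = 1 from rfl] at h2
  push_cast at h2
  linear_combination h2

theorem card_G_exc : Nat.card G = deg (ν 1 : G → ℂ) *
    ((C.E (C.oneV : C.V → ℂ)).index * p * eC C) := by
  rw [h.card_G, h.idx_eq]
  ring

theorem not_dvd_index {l : ℕ} (hl : l.Prime) (hx : l ∣ deg (ν 1 : G → ℂ)) :
    ¬ l ∣ (C.E (C.oneV : C.V → ℂ)).index * p * eC C := by
  have hpr := (Fact.out : p.Prime)
  obtain ⟨q, -, hq⟩ := h.exists_q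
  have hb := h.big_mul hq
  have hm : ((C.E (C.oneV : C.V → ℂ)).index : ℤ) * eC C + 1 = p := by exact_mod_cast index_eq (C := C)
  have hq' : (deg (ν 1 : G → ℂ) : ℤ) + eC C = q * p := by exact_mod_cast hq
  have hl' := Nat.prime_iff_prime_int.1 hl
  have hx' : (l : ℤ) ∣ (deg (ν 1 : G → ℂ) : ℤ) := Int.natCast_dvd_natCast.2 hx
  have hnot1 : ¬ (l : ℤ) ∣ 1 := hl'.not_dvd_one
  have he : ¬ l ∣ eC C := by
    intro hd
    have hd' : (l : ℤ) ∣ (eC C : ℤ) := Int.natCast_dvd_natCast.2 hd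
    have h1 : (l : ℤ) ∣ (q : ℤ) * p := hq' ▸ dvd_add hx' hd'
    have h2 : (l : ℤ) ∣ (q : ℤ) := (hl'.dvd_mul.1 h1).resolve_right fun hp' => by
      have hlp := (Nat.prime_dvd_prime_iff_eq hl hpr).1 (Int.natCast_dvd_natCast.1 hp')
      have := Nat.le_of_dvd (lt_of_lt_of_le Nat.zero_lt_two h.hyp.two_le_eC) hd
      have := h.two_mul_eC
      omega
    refine hnot1 ?_
    rw [show (1 : ℤ) = eC C - (q : ℤ) * (1 + (bigSet C ν).card * (C.E (C.oneV : C.V → ℂ)).index) by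
      linear_combination hb]
    exact dvd_sub hd' (h2.mul_right _)
  intro hd
  rcases hl.dvd_mul.1 hd with hd | hd
  · rcases hl.dvd_mul.1 hd with hd | hd
    · have hd' : (l : ℤ) ∣ ((C.E (C.oneV : C.V → ℂ)).index : ℤ) := Int.natCast_dvd_natCast.2 hd
      refine hnot1 ?_
      rw [show (1 : ℤ) = -((deg (ν 1 : G → ℂ) : ℤ)) +
          ((C.E (C.oneV : C.V → ℂ)).index : ℤ) * ((q : ℤ) * eC C - (bigSet C ν).card * q) by
        linear_combination hq' + hb - (q : ℤ) * hm]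
      exact dvd_add hx'.neg_right (hd'.mul_right _)
    · have hlp := (Nat.prime_dvd_prime_iff_eq hl hpr).1 hd
      subst hlp
      have h1 : (l : ℤ) ∣ (eC C : ℤ) := by
        rw [show (eC C : ℤ) = (q : ℤ) * l - (deg (ν 1 : G → ℂ) : ℤ) by linear_combination hq']
        exact dvd_sub (dvd_mul_left _ _) hx'
      exact he (Int.natCast_dvd_natCast.1 h1)
  · exact he hd

/-- The exceptional characters have full part at the primes dividing their degree. -/
theorem exc_apply_zero {l : ℕ} (hl : l.Prime) (hx : l ∣ deg (ν 1 : G → ℂ)) (u : (ZMod p)ˣ) {g : G}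
    (hg : l ∣ orderOf g) : (ν u : G → ℂ) g = 0 :=
  apply_eq_zero_of_full hl (by rw [deg_exc h.data]; exact h.card_G_exc) (h.not_dvd_index hl hx) hg

end Rem

end Cfsg.Lib.Blocks.SylowCount
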