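import Mathlib
import Cfsg.Agent.Blocks.SylowCount.Remainder
import Cfsg.Agent.Blocks.RegularCongr

/-!
# The two parities of the inertial index
-/

set_option autoImplicit false
set_option linter.unusedSectionVars false

namespace Cfsg.Lib.Blocks.SylowCount

open Cfsg.Lib.Chars SmallOrder
open SmallOrder.Neg (bigSet lowSet)
open scoped ComplexConjugate _root_.Classical

universe u

variable {G : Type u} [Group G] [Fintype G] {p : ℕ} [Fact p.Prime] {M : Ideal AlgInt}
  {C : Cyc G p} {ν : (ZMod p)ˣ → IrrCharacter G}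

/-- The final inequality. -/
lemma count_false' {p e t b c q N x : ℤ} (hp : p = t * e + 1) (hx : x + e = q * p) (hN : N = t * x)
    (hbt : b * t * q = e - 1 - q) (hc : c ≤ e) (ht : 2 ≤ t) (he : 2 ≤ e) (hb : 0 ≤ b) (hq : 3 ≤ q)
    (h : p * x ≤ b * N + c * (p - 1) + t * x + N) : False := by
  have hb0 : 0 ≤ b * t * q := mul_nonneg (mul_nonneg hb (by omega)) (by omega)
  have he4 : 4 ≤ e := by omega
  have h2e : 2 * e ≤ t * e := mul_le_mul_of_nonneg_right ht (by omega)
  have hx2 : 2 * p ≤ x := by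
    have : 3 * p ≤ q * p := mul_le_mul_of_nonneg_right hq (by omega)
    omega
  have h1 : 3 * (b * t) ≤ e := by
    have : 3 * (b * t) ≤ q * (b * t) := mul_le_mul_of_nonneg_right hq (mul_nonneg hb (by omega))
    have : q * (b * t) = b * t * q := mul_comm _ _
    omega
  have hx0 : 0 ≤ x := by omega
  have h2 : 3 * (b * t) * x ≤ e * x := mul_le_mul_of_nonneg_right h1 hx0
  have h3 : c * (p - 1) ≤ e * p := mul_le_mul hc (by omega) (by omega) (by omega)
  have h4 : e * (2 * p) ≤ e * x := mul_le_mul_of_nonneg_left hx2 (by omega)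
  have h5 : 6 * p * x ≤ (5 * e + 12 * t) * x := by
    subst hN
    linarith
  have h6 : 6 * p ≤ 5 * e + 12 * t := le_of_mul_le_mul_right h5 (by omega)
  have h7 : 7 * 2 ≤ (6 * t - 5) * (e - 2) := mul_le_mul (by omega) (by omega) (by omega) (by omega)
  subst hp
  linarith

/-- An involution inverting `y` puts `-1` in the range of the action. -/
theorem neg_one_mem_range {a : G} (h : a * C.y * a⁻¹ = C.y⁻¹) :
    ∃ k : C.H, (C.act k : ZMod p) = -1 := by
  have ha : a⁻¹ ∈ Subgroup.normalizer (Subgroup.zpowers C.y : Set G) :=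
    C.norm_of_mem (i := 1) (j := -1) one_ne_zero
      (by rw [inv_inv, C.yP_neg, C.yP_one, h])
  obtain ⟨k, hk⟩ := DegreeSubTwo.exists_act_of_norm C (by simpa using inv_mem ha)
  refine ⟨k, C.yP_injective ?_⟩
  have h1 := hk 1
  rw [C.yP_one, h, mul_one] at h1
  rw [← h1, C.yP_neg, C.yP_one]

namespace Rem

variable (h : Rem M C ν)
include h

theorem sum_block {R : Type*} [AddCommMonoid R] (f : IrrCharacter G → R)
    (hf : ∀ χ, ¬ C.Lies χ C.oneV → f χ = 0) :
    ∑ χ, f χ = ∑ χ ∈ ordSet C ν, f χ + ∑ χ ∈ Finset.univ.image ν, f χ := by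
  rw [← Finset.sum_union h.disjoint_ord]
  refine (Finset.sum_subset (Finset.subset_univ _) fun χ _ hχ => hf χ fun hl => hχ ?_).symm
  rw [Finset.mem_union]
  by_cases hr : χ ∈ Set.range ν
  · obtain ⟨u, rfl⟩ := hr
    exact Or.inr (Finset.mem_image_of_mem _ (Finset.mem_univ _))
  · exact Or.inl (mem_ordSet.2 ⟨hl, hr⟩)

theorem q_parity {q : ℕ} (hq : deg (ν 1 : G → ℂ) + eC C = q * p) :
    (Odd (eC C) → Even q) ∧ Odd (deg (ν 1 : G → ℂ)) := by
  have hb := h.big_mul hq
  obtain ⟨k, hk⟩ := h.even_index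
  have hp : Odd p := (Fact.out : p.Prime).odd_of_ne_two (by have := h.five_le; omega)
  rw [hk] at hb
  push_cast at hb
  have hpar : Even ((eC C : ℤ) - 1 - q) := ⟨(bigSet C ν).card * k * q, by rw [← hb]; ring⟩
  have hiff : Odd (eC C) ↔ Even q := by
    rw [← Int.odd_coe_nat, ← Int.even_coe_nat q]
    simp only [Int.even_sub, Int.not_even_one, Int.not_even_iff_odd] at hpar
    grind
  refine ⟨hiff.1, ?_⟩
  by_contra hev
  rw [Nat.not_odd_iff_even] at hev
  have h1 : Even (q * p) ↔ Even (eC C) := by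
    rw [← hq, Nat.even_add]
    simp [hev]
  rw [Nat.even_mul] at h1
  have h2 : ¬ Even p := Nat.not_even_iff_odd.2 hp
  rcases Nat.even_or_odd (eC C) with he | he
  · exact Nat.not_odd_iff_even.2 he (hiff.2 ((h1.2 he).resolve_right h2))
  · exact Nat.not_odd_iff_even.2 (h1.1 (Or.inl (hiff.1 he))) he

theorem false_of_odd (hodd : Odd (eC C)) : False := by
  have hpr := (Fact.out : p.Prime)
  obtain ⟨q, -, hq⟩ := h.exists_q
  have hx := (h.q_parity hq).2
  have hp : Odd p := hpr.odd_of_ne_two (by have := h.five_le; omega)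
  have hpe : ¬ 2 ∣ p * eC C := fun hd => by
    rcases Nat.prime_two.dvd_mul.1 hd with hd | hd
    · exact Nat.not_even_iff_odd.2 hp (even_iff_two_dvd.2 hd)
    · exact Nat.not_even_iff_odd.2 hodd (even_iff_two_dvd.2 hd)
  have hxp : ¬ 2 ∣ deg (ν 1 : G → ℂ) * p := fun hd => by
    rcases Nat.prime_two.dvd_mul.1 hd with hd | hd
    · exact Nat.not_even_iff_odd.2 hx (even_iff_two_dvd.2 hd)
    · exact Nat.not_even_iff_odd.2 hp (even_iff_two_dvd.2 hd)
  have h2G : 2 ∣ Nat.card G := by
    rw [h.card_G, h.idx_eq]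
    exact (((even_iff_two_dvd.1 h.even_index).mul_right _).mul_right _).mul_right _
  have : Fact (Nat.Prime 2) := ⟨Nat.prime_two⟩
  obtain ⟨s, hs⟩ := exists_prime_orderOf_dvd_card' 2 h2G
  have hss : s * s = 1 := by rw [← pow_two, ← hs, pow_orderOf_eq_one]
  have hsreg : ¬ p ∣ orderOf s := by
    rw [hs]
    intro hd
    have := Nat.le_of_dvd Nat.zero_lt_two hd
    have := h.five_le
    omega
  have hbig : ∀ χ ∈ bigSet C ν, (χ : G → ℂ) s = 0 := fun χ hχ =>
    apply_eq_zero_of_full Nat.prime_two (m := p * eC C)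
      (by rw [(h.deg_big hχ).1, h.card_G, mul_assoc]) hpe (dvd_of_eq hs.symm)
  have hlow : ∀ χ ∈ lowSet C ν, (χ : G → ℂ) s = 0 := fun χ hχ =>
    apply_eq_zero_of_full Nat.prime_two (m := deg (ν 1 : G → ℂ) * p)
      (by
        have h1 := (h.deg_low hχ).1
        have h2 := index_eq (C := C)
        rw [show deg (χ : G → ℂ) = (C.E (C.oneV : C.V → ℂ)).index * eC C by omega, h.card_G_exc]
        ring) hxp (dvd_of_eq hs.symm)
  have hr : (ν 1 : G → ℂ) s = -1 := by
    have h1 := h.regular_relation hsreg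
    rw [Finset.sum_eq_zero hbig, Finset.sum_eq_zero hlow] at h1
    linear_combination h1
  have hformula := class_mult_formula s s C.y
  have hempty : IsEmpty {w : G × G // IsConj s w.1 ∧ IsConj s w.2 ∧ w.1 * w.2 = C.y} := by
    refine ⟨fun ⟨⟨a, b⟩, ha, hb, hab⟩ => ?_⟩
    have hsq : ∀ a : G, IsConj s a → a * a = 1 := fun a ha => by
      obtain ⟨c, rfl⟩ := isConj_iff.1 ha
      rw [show c * s * c⁻¹ * (c * s * c⁻¹) = c * (s * s) * c⁻¹ by group, hss]
      group
    have hia : a⁻¹ = a := inv_eq_of_mul_eq_one_left (hsq a ha)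
    have hib : b⁻¹ = b := inv_eq_of_mul_eq_one_left (hsq b hb)
    simp only at hab
    obtain ⟨k, hk⟩ := neg_one_mem_range (C := C) (a := a) (by
      rw [← hab, mul_inv_rev, hib, hia, ← mul_assoc, hsq a ha, one_mul])
    have h1 : orderOf (C.act k) = 2 := by
      refine orderOf_eq_prime ?_ fun e => ?_
      · refine Units.ext ?_
        rw [Units.val_pow_eq_pow_val, hk, Units.val_one]
        ring
      · rw [e, Units.val_one] at hk
        have h2 : ((2 : ℕ) : ZMod p) = 0 := by
          push_cast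
          linear_combination hk
        have := Nat.le_of_dvd Nat.zero_lt_two ((ZMod.natCast_eq_zero_iff 2 p).1 h2)
        have := h.five_le
        omega
    refine Nat.not_even_iff_odd.2 hodd (even_iff_two_dvd.2 ?_)
    rw [← h1, eC]
    exact Subgroup.orderOf_dvd_natCard C.act.range ⟨k, rfl⟩
  rw [Nat.card_of_isEmpty, h.sum_block _ fun χ hl => by
      rw [show (χ : G → ℂ) C.y = 0 from by_contra fun hne => hl (h.lies_of_ne_zero χ hne),
        map_zero, mul_zero, zero_div],
    h.sum_ordSet, Finset.sum_eq_zero (s := bigSet C ν) fun χ hχ => by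
      rw [hbig χ hχ, zero_mul, zero_mul, zero_div],
    Finset.sum_eq_zero (s := lowSet C ν) fun χ hχ => by
      rw [hlow χ hχ, zero_mul, zero_mul, zero_div],
    Finset.sum_congr rfl (g := fun χ : IrrCharacter G =>
      (deg (ν 1 : G → ℂ) : ℂ)⁻¹ * conj ((χ : G → ℂ) C.y)) (fun χ hχ => by
        obtain ⟨u, -, rfl⟩ := Finset.mem_image.1 hχ
        rw [apply_exc_regular h.data u hsreg, hr, irr_apply_one_eq_deg, deg_exc h.data]
        ring),
    ← Finset.mul_sum, ← map_sum, ← C.yP_one, sum_exc h.modular h.data one_ne_zero,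
    show (oneG G : G → ℂ) s = 1 from rfl, show (oneG G : G → ℂ) 1 = 1 from rfl,
    show (oneG G : G → ℂ) (C.yP 1) = 1 from rfl] at hformula
  simp only [Int.cast_neg, Int.cast_one, neg_neg, map_one, mul_one, div_one, add_zero,
    Nat.cast_zero] at hformula
  have hK : (Nat.card {x : G // IsConj s x} : ℂ) ≠ 0 := Nat.cast_ne_zero.2 (card_isConj_pos s).ne'
  have hG0 : (Nat.card G : ℂ) ≠ 0 := Nat.cast_ne_zero.2 Nat.card_pos.ne'
  have hx0 : (deg (ν 1 : G → ℂ) : ℂ) ≠ 0 := Nat.cast_ne_zero.2 (deg_irr_pos _).ne'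
  rcases mul_eq_zero.1 hformula.symm with h1 | h1
  · exact (div_ne_zero (mul_ne_zero hK hK) hG0) h1
  · have h2 : ((deg (ν 1 : G → ℂ) + 1 : ℕ) : ℂ) = 0 := by
      push_cast
      field_simp at h1
      linear_combination h1
    exact Nat.succ_ne_zero _ (Nat.cast_eq_zero.1 h2)

/-- An inverting involution has a centralizer of order prime to the exceptional degree. -/
theorem exists_involution (he : Even (eC C)) :
    ∃ s : G, s ≠ 1 ∧ s * s = 1 ∧
      p * deg (ν 1 : G → ℂ) ≤ Nat.card {x : G // IsConj s x} := by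
  have hpr := (Fact.out : p.Prime)
  have hp5 := h.five_le
  have hp2 : p ≠ 2 := by omega
  have hp0 : (p : ℂ) ≠ 0 := Nat.cast_ne_zero.2 hpr.ne_zero
  have : Fact (Nat.Prime 2) := ⟨Nat.prime_two⟩
  obtain ⟨a, ha⟩ := exists_prime_orderOf_dvd_card' (G := C.H) 2
    (by rw [h.card_H_eq]; exact even_iff_two_dvd.1 he)
  set s : G := (a : G) with hs
  have haa : a * a = 1 := by rw [← pow_two, ← ha, pow_orderOf_eq_one]
  have hss : s * s = 1 := congrArg Subtype.val haa
  have ha1 : a ≠ 1 := fun e => by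
    rw [e, orderOf_one] at ha
    omega
  have hact : (C.act a : ZMod p) = -1 := by
    have h1 : (C.act a : ZMod p) * (C.act a : ZMod p) = 1 := by
      rw [← Units.val_mul, ← map_mul, haa, map_one, Units.val_one]
    refine (mul_self_eq_one_iff.1 h1).resolve_left fun e => ha1 ?_
    exact congrArg Subtype.val (h.V_eq ⟨a, Units.ext (by rw [e, Units.val_one])⟩)
  have hinv : ∀ i : ZMod p, s * C.yP i * s⁻¹ = C.yP (-i) := fun i => by
    rw [hs, C.conj_yP, hact, neg_one_mul]
  have hso : orderOf s = 2 := by rw [hs, Subgroup.orderOf_coe, ha]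
  have hlow : ∀ χ ∈ lowSet C ν, (χ : G → ℂ) s = 0 := by
    intro χ hχ
    obtain ⟨hd, hb⟩ := h.deg_low hχ
    obtain ⟨hl, hr⟩ := mem_ordSet.1 (Finset.mem_filter.1 hχ).1
    obtain ⟨r, hr', h2, h3⟩ := C.exists_int_apply_invert hp2 (isCharacter_of_irr χ.2) hss hinv
      (a := 0) (by
        rw [Cyc.sum_units_eq, C.yP_zero, irr_apply_one_eq_deg,
          Finset.sum_congr rfl fun (i : (ZMod p)ˣ) _ =>
            apply_yP_ord h.modular h.data hr hl i.ne_zero,
          Finset.sum_const, Finset.card_univ, ZMod.card_units, nsmul_eq_mul, hb,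
          show p - 1 = deg (χ : G → ℂ) by omega]
        simp)
    rw [hr', show r = 0 by omega, Int.cast_zero]
  obtain ⟨q, -, hq⟩ := h.exists_q
  have hxodd := (h.q_parity hq).2
  set Cn := Nat.card (Subgroup.centralizer ({s} : Set G)) with hCn
  have hnp : ¬ p ∣ Cn := by
    intro hd
    obtain ⟨w, hw⟩ := exists_prime_orderOf_dvd_card' p hd
    have hwo : orderOf (w : G) = p := by rw [Subgroup.orderOf_coe, hw]
    have hc : Commute (w : G) s := Subgroup.mem_centralizer_singleton_iff.1 w.2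
    have ho : orderOf (s * (w : G)) = 2 * p := by
      rw [hc.symm.orderOf_mul_eq_mul_orderOf_of_coprime, hso, hwo]
      rw [hso, hwo]
      exact (Nat.coprime_primes Nat.prime_two hpr).2 (Ne.symm hp2)
    obtain ⟨P, hP⟩ := h.hyp.sylow
    obtain ⟨i, -, v, hv⟩ := C.exists_conj_el (g := s * (w : G)) (ho ▸ dvd_mul_left p 2) P hP
    obtain ⟨c, hc'⟩ := isConj_iff.1 hv
    have h1 : orderOf (s * (w : G)) ∣ p := by
      refine orderOf_dvd_of_pow_eq_one ?_
      refine (conj_eq_one_iff (a := c)).1 ?_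
      rw [← conj_pow, hc', C.el_pow, h.V_eq v, one_pow, C.el_one_right, ZMod.natCast_self, zero_mul,
        C.yP_zero]
    rw [ho] at h1
    have := Nat.le_of_dvd hpr.pos h1
    omega
  have hcop : ∀ l : ℕ, l.Prime → l ∣ deg (ν 1 : G → ℂ) → ¬ l ∣ Cn := by
    intro l hl hlx hlC
    have := Fact.mk hl
    have hl2 : l ≠ 2 := fun e => Nat.not_even_iff_odd.2 hxodd (even_iff_two_dvd.2 (e ▸ hlx))
    have hlp : l ≠ p := fun e => hnp (e ▸ hlC)
    obtain ⟨w, hw⟩ := exists_prime_orderOf_dvd_card' l hlC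
    have hwo : orderOf (w : G) = l := by rw [Subgroup.orderOf_coe, hw]
    have hc : Commute (w : G) s := Subgroup.mem_centralizer_singleton_iff.1 w.2
    have ho : orderOf ((w : G) * s) = l * 2 := by
      rw [hc.orderOf_mul_eq_mul_orderOf_of_coprime, hso, hwo]
      rw [hso, hwo]
      exact (Nat.coprime_primes hl Nat.prime_two).2 hl2
    have hreg : ¬ p ∣ orderOf ((w : G) * s) := by
      rw [ho, hpr.dvd_mul, Nat.prime_dvd_prime_iff_eq hpr hl,
        Nat.prime_dvd_prime_iff_eq hpr Nat.prime_two]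
      rintro (e | e)
      · exact hlp e.symm
      · exact hp2 e
    obtain ⟨Ml, hMl⟩ := exists_isPModular hl
    have hnd := h.not_dvd_index hl hlx
    have hbig : ∀ χ ∈ bigSet C ν, (χ : G → ℂ) ((w : G) * s) = 0 := fun χ hχ =>
      apply_eq_zero_of_full hl (m := p * eC C) (by rw [(h.deg_big hχ).1, h.card_G, mul_assoc])
        (fun hd => hnd (by rw [mul_assoc]; exact hd.mul_left _)) (ho ▸ dvd_mul_right l 2)
    have h1 := h.regular_relation hreg
    rw [Finset.sum_eq_zero hbig, h.exc_apply_zero hl hlx 1 (ho ▸ dvd_mul_right l 2), add_zero,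
      add_zero] at h1
    have h2 : Small Ml (∑ χ ∈ lowSet C ν, (χ : G → ℂ) ((w : G) * s)) := by
      refine small_sum _ _ fun χ hχ => ?_
      have h3 := small_char_sub_regular hMl (isCharacter_of_irr χ.2)
        (isPPart_mul hc ⟨1, by rw [pow_one, hwo]⟩ (by
          rw [hso, Nat.prime_dvd_prime_iff_eq hl Nat.prime_two]
          exact hl2))
      rwa [inv_mul_cancel_left, hlow χ hχ, sub_zero] at h3
    rw [← sub_eq_zero.1 h1, ← Int.cast_one (R := ℂ)] at h2
    exact not_small_intCast hMl (Nat.prime_iff_prime_int.1 hl).not_dvd_one h2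
  set t := (C.E (C.oneV : C.V → ℂ)).index with ht
  have hdvd : Cn ∣ t * eC C := by
    have h1 : Cn ∣ deg (ν 1 : G → ℂ) * (t * p * eC C) :=
      h.card_G_exc ▸ Subgroup.card_subgroup_dvd_card _
    have h2 : Cn ∣ t * p * eC C := (Nat.coprime_of_dvd fun l hl h3 h4 => hcop l hl h4 h3).dvd_of_dvd_mul_left h1
    rw [mul_right_comm] at h2
    exact ((hpr.coprime_iff_not_dvd.2 hnp).symm).dvd_of_dvd_mul_right h2
  refine ⟨s, fun e => ha1 (Subtype.ext e), hss, ?_⟩
  have hte0 : 0 < t * eC C := Nat.mul_pos (lt_of_lt_of_le Nat.zero_lt_two h.two_le_index)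
    (lt_of_lt_of_le Nat.zero_lt_two h.hyp.two_le_eC)
  refine Nat.le_of_mul_le_mul_right ?_ hte0
  calc p * deg (ν 1 : G → ℂ) * (t * eC C) = Nat.card G := by rw [h.card_G_exc]; ring
    _ = Nat.card {x : G // IsConj s x} * Cn := (card_isConj_mul s).symm
    _ ≤ _ := Nat.mul_le_mul_left _ (Nat.le_of_dvd hte0 hdvd)

/-- The cofactor of the exceptional degree is one. -/
theorem q_eq_one {q : ℕ} (hq0 : 0 < q) (hq : deg (ν 1 : G → ℂ) + eC C = q * p) : q = 1 := by
  rcases Nat.even_or_odd (eC C) with he | he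
  swap
  · exact (h.false_of_odd he).elim
  by_contra hne
  have hq3 : 3 ≤ q := by
    rcases Nat.lt_or_ge q 3 with hlt | hge
    · obtain rfl : q = 2 := by omega
      have hb := h.big_mul hq
      obtain ⟨j, hj⟩ := he
      obtain ⟨k, hk⟩ := h.even_index
      rw [hj, hk] at hb
      push_cast at hb
      exfalso
      have : ((bigSet C ν).card : ℤ) * (k + k) * 2 = 2 * (2 * ((bigSet C ν).card * k)) := by ring
      omega
    · exact hge
  obtain ⟨s, hs1, hss, hK⟩ := h.exists_involution he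
  have hcount : Nat.card {x : G // IsConj s x} + 1 ≤ Nat.card {g : G // g * g = 1} := by
    rw [← Finite.card_option]
    refine Nat.card_le_card_of_injective (fun o => (o.elim ⟨1, one_mul 1⟩ fun x => ⟨x.1, by
      obtain ⟨c, hc⟩ := isConj_iff.1 x.2
      rw [← hc, show c * s * c⁻¹ * (c * s * c⁻¹) = c * (s * s) * c⁻¹ by group, hss]
      group⟩ : {g : G // g * g = 1})) ?_
    rintro (_ | x) (_ | x') e
    · rfl
    · exfalso
      obtain ⟨c, hc⟩ := isConj_iff.1 x'.2
      have e' : (1 : G) = x'.1 := congrArg Subtype.val e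
      rw [← e', mul_inv_eq_one, mul_eq_left] at hc
      exact hs1 hc
    · exfalso
      obtain ⟨c, hc⟩ := isConj_iff.1 x.2
      have e' : x.1 = (1 : G) := congrArg Subtype.val e
      rw [e', mul_inv_eq_one, mul_eq_left] at hc
      exact hs1 hc
    · exact congrArg some (Subtype.ext (congrArg Subtype.val e :))
  have h1 := h.sum_deg_le
  have h2 := card_sq_eq_one_le (G := G)
  have h3 : (((p * deg (ν 1 : G → ℂ) + 1 : ℕ)) : ℤ) ≤
      ((∑ χ : IrrCharacter G, deg (χ : G → ℂ) : ℕ) : ℤ) :=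
    Int.ofNat_le.2 (by omega)
  rw [Nat.cast_add, Nat.cast_one, Nat.cast_mul] at h3
  have ht2 := h.two_le_index
  have he2 := h.hyp.two_le_eC
  have hte : ((C.E (C.oneV : C.V → ℂ)).index : ℤ) * eC C + 1 = p := by exact_mod_cast index_eq (C := C)
  have hc : ((lowSet C ν).card : ℤ) ≤ (eC C : ℤ) := by
    exact_mod_cast (show (lowSet C ν).card ≤ eC C by have := h.card_sets; omega)
  exact count_false' (q := (q : ℤ)) (x := (deg (ν 1 : G → ℂ) : ℤ)) (N := (idx C : ℤ)) hte.symm (by exact_mod_cast hq) (by exact_mod_cast h.idx_eq)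
    (h.big_mul hq) hc (by exact_mod_cast ht2) (by exact_mod_cast he2) (Int.natCast_nonneg _)
    (by exact_mod_cast hq3) (by linarith)

/-- In the remaining case the order is less than `p³`. -/
theorem small : Nat.card G < p ^ 3 := by
  obtain ⟨q, hq0, hq⟩ := h.exists_q
  obtain rfl := h.q_eq_one hq0 hq
  rw [one_mul] at hq
  rw [h.card_G_exc]
  have hte := index_eq (C := C)
  have he2 := h.hyp.two_le_eC
  calc deg (ν 1 : G → ℂ) * ((C.E (C.oneV : C.V → ℂ)).index * p * eC C) =
      deg (ν 1 : G → ℂ) * (p * ((C.E (C.oneV : C.V → ℂ)).index * eC C)) := by ring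
    _ < p * (p * p) := Nat.mul_lt_mul_of_lt_of_le (by omega) (Nat.mul_le_mul_left _ (by omega))
        (Nat.mul_pos (Fact.out : p.Prime).pos (Fact.out : p.Prime).pos)
    _ = p ^ 3 := by ring

end Rem

end Cfsg.Lib.Blocks.SylowCount
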