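import Mathlib
import Cfsg.Agent.Blocks.SylowCount.Cases
import Cfsg.Agent.Components.Cores
import Cfsg.Agent.Coprime.SolvableBasics

/-!
# The number of Sylow subgroups of order `p` in a perfect group
-/

set_option autoImplicit false
set_option linter.unusedSectionVars false

namespace Cfsg.Lib.Blocks.SylowCount

open Cfsg.Lib.Chars SmallOrder
open scoped _root_.Classical

universe u

variable {p : ℕ} [Fact p.Prime]

/-- The trichotomy for a group without nontrivial normal `p'`-subgroup. -/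
theorem core_main {Q : Type u} [Group Q] [Fintype Q] (C : Cyc Q p) (hC : Core C) {n : ℕ}
    (hn : idx C = 1 + n * p) :
    (∃ (F : Type) (_ : Field F) (_ : Fintype F), Fintype.card F = p ∧ 3 < p ∧
      Nonempty (Q ≃* Matrix.ProjectiveSpecialLinearGroup (Fin 2) F)) ∨
    (∃ (m : ℕ) (F : Type) (_ : Field F) (_ : Fintype F), Fintype.card F = 2 ^ m ∧ p = 2 ^ m + 1 ∧
      3 < p ∧ Nonempty (Q ≃* Matrix.SpecialLinearGroup (Fin 2) F)) ∨
    FForm p n := by
  have hpr := (Fact.out : p.Prime)
  by_cases hF : FForm p n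
  · exact Or.inr (Or.inr hF)
  have hno : NoForm C := fun n' hn' h => hF (by
    rwa [show n = n' from Nat.eq_of_mul_eq_mul_right hpr.pos (by omega)])
  obtain ⟨M, hM⟩ := exists_isPModular hpr
  obtain ⟨ν, δ, hD⟩ := C.exists_orbitData hM C.oneV
  rcases hD.sign with e | e
  · subst e
    obtain ⟨h3, hi⟩ := hC.plus_iso hno hM hD
    exact Or.inl ⟨ZMod p, inferInstance, inferInstance, ZMod.card p, h3, hi⟩
  · subst e
    have h := hC.rem_of_minus hno hM hD
    obtain ⟨P, hP⟩ := hC.sylow
    rcases SmallOrder.main hC.perfect p C.dvd_card h.small P (hP ▸ hC.nn) (fun N hN h2 => by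
      have hne : N ≠ ⊥ := fun e => by
        rw [e, Subgroup.card_bot] at h2
        omega
      have h1 := Subgroup.orderOf_dvd_natCard N (hC.core N hN hne)
      rw [C.order, h2] at h1
      have := Nat.le_of_dvd Nat.zero_lt_two h1
      have := hC.three_le
      omega) with h' | h'
    · exact Or.inl h'
    · exact Or.inr (Or.inl h')

/-- The trichotomy. -/
theorem main {G : Type u} [Group G] [Finite G] (hperf : commutator G = ⊤) (P : Sylow p G)
    (hP : Nat.card P = p) (n : ℕ) (hn : Nat.card (Sylow p G) = 1 + n * p) :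
    (∃ (F : Type) (_ : Field F) (_ : Fintype F), Fintype.card F = p ∧ 3 < p ∧
      Nonempty (G ⧸ Cfsg.pPrimeCore p G ≃* Matrix.ProjectiveSpecialLinearGroup (Fin 2) F)) ∨
    (∃ (m : ℕ) (F : Type) (_ : Field F) (_ : Fintype F), Fintype.card F = 2 ^ m ∧ p = 2 ^ m + 1 ∧
      3 < p ∧ Nonempty (G ⧸ Cfsg.pPrimeCore p G ≃* Matrix.SpecialLinearGroup (Fin 2) F)) ∨
    FForm p n := by
  have hpr := (Fact.out : p.Prime)
  have := Fintype.ofFinite G
  set K := Cfsg.pPrimeCore p G with hK
  let π : G →* G ⧸ K := QuotientGroup.mk' K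
  have hπ : Function.Surjective π := QuotientGroup.mk'_surjective K
  let _ : Fintype (G ⧸ K) := Fintype.ofFinite _
  set R : Sylow p (G ⧸ K) := P.mapSurjective hπ with hR
  have hperfQ : commutator (G ⧸ K) = ⊤ := by
    have := congrArg (Subgroup.map π) hperf
    rw [Subgroup.map_top_of_surjective π hπ, commutator_def, Subgroup.map_commutator,
      Subgroup.map_top_of_surjective π hπ] at this
    rwa [commutator_def]
  have hdiv : p ∣ Nat.card G := by
    have := Subgroup.card_subgroup_dvd_card (P : Subgroup G)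
    rwa [hP] at this
  have hsq : ¬ p ^ 2 ∣ Nat.card G := fun h => by
    have h1 : p ^ 2 ∣ Nat.card (P : Subgroup G) := P.pow_dvd_card_of_pow_dvd_card h
    rw [hP] at h1
    have := Nat.le_of_dvd hpr.pos h1
    have := hpr.two_le
    nlinarith
  have hsqQ : ¬ p ^ 2 ∣ Nat.card (G ⧸ K) := fun h =>
    hsq (h.trans (Subgroup.card_quotient_dvd_card K))
  have hdivQ : p ∣ Nat.card (G ⧸ K) := by
    have h1 := Subgroup.card_eq_card_quotient_mul_card_subgroup K
    rw [h1] at hdiv
    refine (hpr.dvd_mul.1 hdiv).resolve_right fun h2 => ?_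
    exact hpr.ne_one (Nat.dvd_one.1 ((Cfsg.Lib.Components.coprime_card_pPrimeCore (G := G) p) ▸
      Nat.dvd_gcd h2 dvd_rfl))
  obtain ⟨C, hC⟩ := exists_cyc hdivQ hsqQ R
  have hcore : Core C := by
    refine ⟨hperfQ, ⟨R, hC⟩, fun N hN hne => ?_⟩
    have hpN : p ∣ Nat.card N := by
      by_contra hnd
      refine hne (le_bot_iff.1 ?_)
      rw [← Cfsg.Lib.Coprime.pPrimeCore_quotient_eq_bot (G := G) (p := p)]
      exact Cfsg.Lib.Components.le_pPrimeCore ((hpr.coprime_iff_not_dvd.2 hnd).symm)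
    obtain ⟨z, hz⟩ := exists_prime_orderOf_dvd_card' p hpN
    have hzo : orderOf (z : G ⧸ K) = p := by rw [Subgroup.orderOf_coe, hz]
    obtain ⟨R', hR'⟩ := (IsPGroup.of_card (n := 1)
      (show Nat.card (Subgroup.zpowers (z : G ⧸ K)) = p ^ 1 by
        rw [Nat.card_zpowers, hzo, pow_one])).exists_le_sylow
    have hRc : Nat.card (R' : Subgroup (G ⧸ K)) = p := by
      rw [Nat.card_congr (R'.equiv R).toEquiv]
      show Nat.card (R : Subgroup (G ⧸ K)) = p
      rw [← hC, Nat.card_zpowers, C.order]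
    have hle : (R' : Subgroup (G ⧸ K)) ≤ N := by
      rw [← Subgroup.eq_of_le_of_card_ge hR' (by rw [hRc, Nat.card_zpowers, hzo])]
      exact Subgroup.zpowers_le.2 z.2
    obtain ⟨g, hg⟩ := MulAction.exists_smul_eq (G ⧸ K) R' R
    have hy : C.y ∈ (R : Subgroup (G ⧸ K)) := hC ▸ Subgroup.mem_zpowers C.y
    rw [← hg, Sylow.coe_subgroup_smul, Subgroup.mem_pointwise_smul_iff_inv_smul_mem] at hy
    have h1 := hN.conj_mem _ (hle hy) g
    simpa [MulAut.conj_symm_apply, mul_assoc] using h1
  obtain ⟨n', hn'0, hn'⟩ := hcore.exists_idx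
  -- comparison of the numbers of Sylow subgroups
  set J := (Subgroup.normalizer ((R : Subgroup (G ⧸ K)) : Set (G ⧸ K))).comap π with hJ
  have hJi : J.index = 1 + n' * p := by
    rw [hJ, Subgroup.index_comap_of_surjective _ hπ, ← hC]
    exact hn'
  have hle : Subgroup.normalizer ((P : Subgroup G) : Set G) ≤ J :=
    Subgroup.map_le_iff_le_comap.1 (Subgroup.le_normalizer_map π)
  have hmul := Subgroup.relIndex_mul_index hle
  rw [hJi, show (Subgroup.normalizer ((P : Subgroup G) : Set G)).index = Nat.card (Sylow p G) from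
    P.card_eq_index_normalizer.symm, hn] at hmul
  set r := (Subgroup.normalizer ((P : Subgroup G) : Set G)).relIndex J
  obtain ⟨c, hc⟩ : ∃ c, r = 1 + c * p := by
    have hr0 : r ≠ 0 := fun e => by
      rw [e, zero_mul] at hmul
      omega
    have h1 : r ≡ 1 [MOD p] := by
      rw [← ZMod.natCast_eq_natCast_iff]
      have := congrArg (Nat.cast (R := ZMod p)) hmul
      push_cast at this
      simpa using this
    obtain ⟨k, hk⟩ := (Nat.modEq_iff_dvd' (Nat.one_le_iff_ne_zero.2 hr0)).1 h1.symm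
    exact ⟨k, by rw [mul_comm k]; omega⟩
  rcases Nat.eq_zero_or_pos c with rfl | hc0
  · rw [zero_mul, add_zero] at hc
    rw [hc, one_mul] at hmul
    exact core_main C hcore (hn'.trans hmul)
  · exact Or.inr (Or.inr (fform_of_mul hpr.pos hn'0 hc0 (by rw [← hmul, hc, mul_comm])))

end Cfsg.Lib.Blocks.SylowCount
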