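import Mathlib
import Cfsg.Agent.Blocks.SylowCount.Main

/-!
# A self-centralizing element of order `p` with few Sylow subgroups
-/

set_option autoImplicit false
set_option linter.unusedSectionVars false

namespace Cfsg.Lib.Blocks.SylowCount

open Cfsg.Lib.Chars SmallOrder
open scoped _root_.Classical

universe u

variable {p : ℕ} [Fact p.Prime]

/-- The special form needs `n ≥ (p + 3) / 2`. -/
lemma le_of_fform {n : ℕ} (h : FForm p n) : p + 3 ≤ 2 * n := by
  obtain ⟨h, u, hh, hu, he⟩ := h
  have h1 : u * p ≤ h * u * p := Nat.mul_le_mul_right _ (Nat.le_mul_of_pos_left _ hh)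
  have h2 : (p + 3) * (u + 1) ≤ 2 * (u * p + u ^ 2 + u + 1) := by
    have h3 : p ≤ u * p := Nat.le_mul_of_pos_left _ hu
    have h4 : u ≤ u ^ 2 := Nat.le_self_pow two_ne_zero u
    have h5 : 1 * 1 ≤ u ^ 2 := by rw [pow_two]; exact Nat.mul_le_mul hu hu
    have h6 : (p + 3) * (u + 1) = u * p + p + 3 * u + 3 := by ring
    omega
  refine Nat.le_of_mul_le_mul_right (c := u + 1) ?_ (Nat.succ_pos u)
  have h7 : 2 * n * (u + 1) = 2 * (n * (u + 1)) := mul_assoc _ _ _
  omega

/-- In characteristic two the special linear group in dimension two is projective. -/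
lemma sl_equiv_psl {F : Type} [Field F] [Fintype F] {m : ℕ} (hm : 0 < m)
    (hF : Fintype.card F = 2 ^ m) :
    Nonempty (Matrix.SpecialLinearGroup (Fin 2) F ≃* Matrix.ProjectiveSpecialLinearGroup (Fin 2) F) := by
  have hbot : Subgroup.center (Matrix.SpecialLinearGroup (Fin 2) F) = ⊥ := by
    refine (Subgroup.eq_bot_iff_forall _).2 fun A hA => ?_
    obtain ⟨r, hr, hA'⟩ := Matrix.SpecialLinearGroup.mem_center_iff.1 hA
    rw [Fintype.card_fin] at hr
    have hr0 : r ≠ 0 := fun e => by
      rw [e, zero_pow two_ne_zero] at hr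
      exact zero_ne_one hr
    have h1 := pow_gcd_eq_one.2 ⟨hr, FiniteField.pow_card_sub_one_eq_one r hr0⟩
    have hodd : Odd (Fintype.card F - 1) := by
      rw [hF]
      exact Nat.Even.sub_odd (Nat.one_le_pow _ _ (by omega))
        (Nat.even_pow.2 ⟨even_two, hm.ne'⟩) odd_one
    rw [show Nat.gcd 2 (Fintype.card F - 1) = 1 from Nat.coprime_two_left.2 hodd, pow_one] at h1
    subst h1
    exact Subtype.ext (by rw [← hA', map_one]; rfl)
  exact ⟨((QuotientGroup.quotientMulEquivOfEq hbot).trans QuotientGroup.quotientBot).symm⟩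

variable {G : Type u} [Group G] [Finite G]

/-- The Sylow subgroup of a self-centralizing element of order `p`. -/
lemma exists_sylow_of_self_centralizing (z : G) (hz : orderOf z = p)
    (hC : Subgroup.centralizer ({z} : Set G) = Subgroup.zpowers z) :
    ∃ P : Sylow p G, (P : Subgroup G) = Subgroup.zpowers z := by
  have hp := (Fact.out : p.Prime)
  have hzp : IsPGroup p (Subgroup.zpowers z) :=
    IsPGroup.of_card (n := 1) (by rw [Nat.card_zpowers, hz, pow_one])
  obtain ⟨P, hP⟩ := hzp.exists_le_sylow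
  refine ⟨P, le_antisymm (fun g hg => ?_) hP⟩
  have hzP : z ∈ (P : Subgroup G) := hP (Subgroup.mem_zpowers z)
  have : Nontrivial (P : Subgroup G) := Subgroup.nontrivial_iff_exists_ne_one _ |>.2
    ⟨z, hzP, fun e => hp.ne_one (by rw [← hz, e, orderOf_one])⟩
  have := P.2.center_nontrivial
  obtain ⟨w, hw⟩ := exists_ne (1 : Subgroup.center (P : Subgroup G))
  set w' : G := ((w : (P : Subgroup G)) : G) with hw'
  have hwP : w' ∈ (P : Subgroup G) := (w : (P : Subgroup G)).2
  have hcomm : ∀ x ∈ (P : Subgroup G), x * w' = w' * x := fun x hx =>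
    congrArg Subtype.val (Subgroup.mem_center_iff.1 w.2 ⟨x, hx⟩)
  have hwz : w' ∈ Subgroup.zpowers z := by
    rw [← hC, Subgroup.mem_centralizer_singleton_iff]
    exact (hcomm z hzP).symm
  have hgen : Subgroup.zpowers w' = Subgroup.zpowers z := by
    refine Subgroup.eq_of_le_of_card_ge (Subgroup.zpowers_le.2 hwz) ?_
    rw [Nat.card_zpowers, Nat.card_zpowers, hz]
    refine ((Nat.dvd_prime hp).1 (hz ▸ orderOf_dvd_of_mem_zpowers hwz)).resolve_left ?_ |>.ge
    exact fun e => hw (Subtype.ext (Subtype.ext (orderOf_eq_one_iff.1 e)))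
  rw [← hC, Subgroup.mem_centralizer_singleton_iff]
  obtain ⟨i, hi⟩ : z ∈ Subgroup.zpowers w' := hgen ▸ Subgroup.mem_zpowers z
  rw [← hi]
  exact ((show Commute g w' from hcomm g hg).zpow_right i).eq

/-- Brauer's theorem on self-centralizing elements of prime order. -/
theorem self_centralizing_main (hperf : commutator G = ⊤) (z : G) (hz : orderOf z = p)
    (hC : Subgroup.centralizer ({z} : Set G) = Subgroup.zpowers z)
    (hbd : 2 * Nat.card (Sylow p G) < (p + 1) * (p + 2)) :
    (∃ (F : Type) (_ : Field F) (_ : Fintype F), Fintype.card F = p ∧ 3 < p ∧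
      Nonempty (G ≃* Matrix.ProjectiveSpecialLinearGroup (Fin 2) F)) ∨
    (∃ (m : ℕ) (F : Type) (_ : Field F) (_ : Fintype F), Fintype.card F = 2 ^ m ∧ p = 2 ^ m + 1 ∧
      3 < p ∧ Nonempty (G ≃* Matrix.ProjectiveSpecialLinearGroup (Fin 2) F)) := by
  have hp := (Fact.out : p.Prime)
  have := Fintype.ofFinite G
  obtain ⟨P, hPz⟩ := exists_sylow_of_self_centralizing z hz hC
  have hP : Nat.card P = p := by
    show Nat.card (P : Subgroup G) = p
    rw [hPz, Nat.card_zpowers, hz]
  have hz1 : (P : Subgroup G) ≠ ⊥ := fun e => hp.ne_one (by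
    rw [← hP, show Nat.card P = Nat.card (P : Subgroup G) from rfl, e, Subgroup.card_bot])
  have hPn : ¬ (P : Subgroup G).Normal := by
    intro h
    have : IsCyclic (P : Subgroup G) := isCyclic_of_prime_card (p := p) hP
    refine not_normalizer_le_centralizer hperf P hz1 fun g _ =>
      Subgroup.mem_centralizer_iff.2 fun x hx => ?_
    exact (mul_inv_eq_iff_eq_mul.1 (commute_of_perfect_cyclic hperf (P : Subgroup G) g hx)).symm
  obtain ⟨n, hn0, hn⟩ := sylow_count P hPn
  have hn' : Nat.card (Sylow p G) = 1 + n * p := by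
    rw [P.card_eq_index_normalizer]
    exact hn
  have hno : ¬ FForm p n := fun hF => by
    have h1 := le_of_fform hF
    rw [hn'] at hbd
    have h2 : (p + 3) * p ≤ 2 * n * p := Nat.mul_le_mul_right _ h1
    nlinarith
  -- the normal `p'`-subgroup lies in the normalizer
  set K := Cfsg.pPrimeCore p G with hK
  let π : G →* G ⧸ K := QuotientGroup.mk' K
  have hπ : Function.Surjective π := QuotientGroup.mk'_surjective K
  let _ : Fintype (G ⧸ K) := Fintype.ofFinite _
  set R : Sylow p (G ⧸ K) := P.mapSurjective hπ with hR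
  have hperfQ : commutator (G ⧸ K) = ⊤ := by
    have := congrArg (Subgroup.map π) hperf
    rw [Subgroup.map_top_of_surjective π hπ, commutator_def, Subgroup.map_commutator,
      Subgroup.map_top_of_surjective π hπ] at this
    rwa [commutator_def]
  have hzK : z ∉ K := fun h => by
    have h1 := Subgroup.orderOf_dvd_natCard K h
    rw [hz] at h1
    exact hp.ne_one (Nat.dvd_one.1 ((Cfsg.Lib.Components.coprime_card_pPrimeCore (G := G) p) ▸
      Nat.dvd_gcd h1 dvd_rfl))
  have hRz : (R : Subgroup (G ⧸ K)) = Subgroup.zpowers (π z) := by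
    show (P : Subgroup G).map π = _
    rw [hPz, MonoidHom.map_zpowers]
  have hRn : ¬ (R : Subgroup (G ⧸ K)).Normal := by
    intro h
    have : IsCyclic (R : Subgroup (G ⧸ K)) := by
      rw [hRz]
      infer_instance
    refine not_normalizer_le_centralizer hperfQ R (fun e => hzK ?_) fun g _ =>
      Subgroup.mem_centralizer_iff.2 fun x hx =>
        (mul_inv_eq_iff_eq_mul.1 (commute_of_perfect_cyclic hperfQ (R : Subgroup (G ⧸ K)) g hx)).symm
    rw [hRz, Subgroup.zpowers_eq_bot] at e
    exact (QuotientGroup.eq_one_iff z).1 e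
  obtain ⟨n', hn'0, hn'e⟩ := sylow_count R hRn
  set J := (Subgroup.normalizer ((R : Subgroup (G ⧸ K)) : Set (G ⧸ K))).comap π with hJ
  have hle : Subgroup.normalizer ((P : Subgroup G) : Set G) ≤ J :=
    Subgroup.map_le_iff_le_comap.1 (Subgroup.le_normalizer_map π)
  have hmul := Subgroup.relIndex_mul_index hle
  rw [hJ, Subgroup.index_comap_of_surjective _ hπ, hn'e, hn] at hmul
  set r := (Subgroup.normalizer ((P : Subgroup G) : Set G)).relIndex J with hr
  obtain ⟨c, hc⟩ : ∃ c, r = 1 + c * p := by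
    have hr0 : r ≠ 0 := fun e => by
      rw [e, zero_mul] at hmul
      omega
    have h1 : r ≡ 1 [MOD p] := by
      rw [← ZMod.natCast_eq_natCast_iff]
      have := congrArg (Nat.cast (R := ZMod p)) hmul
      push_cast at this
      simpa using this
    obtain ⟨k, hk⟩ := (Nat.modEq_iff_dvd' (Nat.one_le_iff_ne_zero.2 hr0)).1 h1.symm
    exact ⟨k, by rw [mul_comm k]; omega⟩
  rcases Nat.eq_zero_or_pos c with rfl | hc0
  swap
  · exact absurd (fform_of_mul hp.pos hn'0 hc0 (by rw [← hmul, hc, mul_comm])) hno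
  rw [zero_mul, add_zero, hr, Subgroup.relIndex_eq_one] at hc
  have hKn : K.Normal := Cfsg.Lib.Components.pPrimeCore_normal' p
  have hKbot : K = ⊥ := by
    refine (Subgroup.eq_bot_iff_forall _).2 fun k hk => ?_
    have hkN : k ∈ Subgroup.normalizer ((P : Subgroup G) : Set G) := hc (by
      show π k ∈ Subgroup.normalizer ((R : Subgroup (G ⧸ K)) : Set (G ⧸ K))
      rw [show π k = 1 from (QuotientGroup.eq_one_iff k).2 hk]
      exact one_mem _)
    have h1 : k * z * k⁻¹ ∈ (P : Subgroup G) :=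
      (Subgroup.mem_normalizer_iff.1 hkN z).1 (hPz ▸ Subgroup.mem_zpowers z)
    have h2 : k * z * k⁻¹ * z⁻¹ ∈ K := by
      rw [show k * z * k⁻¹ * z⁻¹ = k * (z * k⁻¹ * z⁻¹) by group]
      exact mul_mem hk (hKn.conj_mem _ (inv_mem hk) z)
    have h3 : k * z * k⁻¹ * z⁻¹ ∈ Subgroup.zpowers z :=
      mul_mem (hPz ▸ h1) (inv_mem (Subgroup.mem_zpowers z))
    have hcop := Cfsg.Lib.Components.coprime_card_pPrimeCore (G := G) p
    have hone : ∀ x ∈ K, x ∈ Subgroup.zpowers z → x = 1 := fun x hxK hxz => by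
      have h4 : orderOf x ∣ p := hz ▸ orderOf_dvd_of_mem_zpowers hxz
      exact orderOf_eq_one_iff.1 (Nat.eq_one_of_dvd_coprimes hcop
        (Subgroup.orderOf_dvd_natCard K hxK) h4)
    refine hone k hk ?_
    rw [← hC, Subgroup.mem_centralizer_singleton_iff]
    have h5 := hone _ h2 h3
    rw [mul_inv_eq_one, mul_inv_eq_iff_eq_mul] at h5
    exact h5
  let e : G ⧸ K ≃* G := (QuotientGroup.quotientMulEquivOfEq hKbot).trans QuotientGroup.quotientBot
  rcases main hperf P hP n hn' with ⟨F, i1, i2, hF, h3, ⟨σ⟩⟩ | ⟨m, F, i1, i2, hF, hm, h3, ⟨σ⟩⟩ | hf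
  · exact Or.inl ⟨F, i1, i2, hF, h3, ⟨e.symm.trans σ⟩⟩
  · obtain ⟨τ⟩ := sl_equiv_psl (F := F) (m := m) (Nat.pos_of_ne_zero fun h0 => by
      rw [h0] at hm
      norm_num at hm
      omega) hF
    exact Or.inr ⟨m, F, i1, i2, hF, hm, h3, ⟨(e.symm.trans σ).trans τ⟩⟩
  · exact absurd hf hno

end Cfsg.Lib.Blocks.SylowCount
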